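import Cfsg.Agent.Lib.KleinSD.RelClassify

/-!
# Coordinates in dihedral and semidihedral 2-groups
-/

set_option autoImplicit false
set_option linter.unusedSectionVars false
set_option linter.unusedVariables false

namespace Cfsg.Agent.Lib.KleinSD

open Subgroup Cfsg.Agent.Lib.PGroups.CyclicNormal

variable {G : Type*} [Group G]

/-- `T = ⟨a⟩ ∪ ⟨a⟩y` is dihedral (`δ = -1`) or semidihedral (`δ = 2^(m+1) - 1`) of order
`2^(m+3)`. -/
structure DS (T : Subgroup G) (a y : G) (m : ℕ) (δ : ℤ) : Prop where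
  hao : orderOf a = 2 ^ (m + 2)
  ha : a ∈ T
  hy : y ∈ T
  hyM : y ∉ zpowers a
  hmem : ∀ t ∈ T, (∃ j : ℤ, t = a ^ j) ∨ (∃ j : ℤ, t = a ^ j * y)
  hy2 : y ^ 2 = 1
  hya : y * a * y⁻¹ = a ^ δ
  hδ : δ = -1 ∨ (1 ≤ m ∧ δ = 2 ^ (m + 1) - 1)

namespace DS

variable {T : Subgroup G} {a y : G} {m : ℕ} {δ : ℤ} (D : DS T a y m δ)
include D

theorem zeq (i j : ℤ) : a ^ i = a ^ j ↔ (2 : ℤ) ^ (m + 2) ∣ i - j :=
  zpow_eq_zpow_iff_dvd D.hao i j

theorem zeq1 (i : ℤ) : a ^ i = 1 ↔ (2 : ℤ) ^ (m + 2) ∣ i :=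
  zpow_eq_one_iff_dvd D.hao i

theorem yinv : y⁻¹ = y := by
  rw [inv_eq_iff_mul_eq_one, ← sq, D.hy2]

theorem yy : y * y = 1 := by rw [← sq, D.hy2]

theorem conj_y (j : ℤ) : y * a ^ j * y⁻¹ = a ^ (δ * j) := conj_zpow_of D.hya j

theorem y_mul (j : ℤ) : y * a ^ j = a ^ (δ * j) * y := by
  rw [← D.conj_y j]; group

theorem mul_y_mul (i j : ℤ) : a ^ i * y * (a ^ j * y) = a ^ (i + δ * j) := by
  calc a ^ i * y * (a ^ j * y) = a ^ i * (y * a ^ j) * y := by group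
    _ = a ^ i * a ^ (δ * j) * (y * y) := by rw [D.y_mul]; group
    _ = a ^ (i + δ * j) := by rw [D.yy, mul_one, zpow_add]

theorem mul_y_pow (i j : ℤ) : a ^ i * y * a ^ j = a ^ (i + δ * j) * y := by
  rw [zpow_add, mul_assoc, D.y_mul, mul_assoc]

theorem pow_y_sq (j : ℤ) : (a ^ j * y) ^ 2 = a ^ (j + δ * j) := by
  rw [sq, D.mul_y_mul]

theorem eq_y (i j : ℤ) : a ^ i * y = a ^ j * y ↔ (2 : ℤ) ^ (m + 2) ∣ i - j := by
  rw [mul_left_inj, D.zeq]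

theorem ne_y (i j : ℤ) : a ^ i * y ≠ a ^ j := by
  intro h
  apply D.hyM
  have : y = (a ^ i)⁻¹ * a ^ j := by rw [← h]; group
  rw [this]
  exact mul_mem (inv_mem (zpow_mem (mem_zpowers a) _)) (zpow_mem (mem_zpowers a) _)

theorem δodd : δ % 2 = 1 := by
  rcases D.hδ with rfl | ⟨_, rfl⟩
  · norm_num
  · rw [pow_succ]
    omega

/-- `(1 - δ) = 2 * odd`. -/
theorem δ_sub : ∃ e : ℤ, 1 - δ = 2 * e ∧ IsCoprime e ((2 : ℤ) ^ (m + 1)) := by
  rcases D.hδ with rfl | ⟨hm, rfl⟩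
  · exact ⟨1, by norm_num, isCoprime_one_left⟩
  · obtain ⟨m', rfl⟩ : ∃ m', m = m' + 1 := ⟨m - 1, by omega⟩
    refine ⟨1 - 2 ^ (m' + 1), by ring, ?_⟩
    apply IsCoprime.pow_right
    exact ⟨1, 2 ^ m', by ring⟩

theorem dvd_of_sub_mul {k : ℤ} (h : (2 : ℤ) ^ (m + 2) ∣ (1 - δ) * k) : (2 : ℤ) ^ (m + 1) ∣ k := by
  obtain ⟨e, he, hc⟩ := D.δ_sub
  rw [he, mul_assoc, pow_succ', mul_dvd_mul_iff_left (by norm_num)] at h
  exact hc.symm.dvd_of_dvd_mul_left h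

theorem sub_mul_q : (2 : ℤ) ^ (m + 2) ∣ (1 - δ) * 2 ^ m - 2 ^ (m + 1) := by
  rcases D.hδ with rfl | ⟨hm, rfl⟩
  · refine ⟨0, ?_⟩
    ring
  · obtain ⟨m', rfl⟩ : ∃ m', m = m' + 1 := ⟨m - 1, by omega⟩
    refine ⟨-(2 : ℤ) ^ m', ?_⟩
    ring

/-- the central involution -/
def z (a : G) (m : ℕ) : G := a ^ ((2 : ℤ) ^ (m + 1))

/-- the element of order 4 -/
def r (a : G) (m : ℕ) : G := a ^ ((2 : ℤ) ^ m)

theorem r_sq : r a m ^ 2 = z a m := by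
  unfold r z
  rw [← zpow_natCast, ← zpow_mul]
  congr 1

theorem z_sq : z a m ^ 2 = 1 := by
  unfold z
  rw [← zpow_natCast, ← zpow_mul, D.zeq1]
  exact ⟨1, by push_cast; ring⟩

theorem z_ne_one : z a m ≠ 1 := by
  unfold z
  rw [Ne, D.zeq1, pow_succ (2 : ℤ) (m + 1)]
  intro h
  have h0 : (0 : ℤ) < 2 ^ (m + 1) := by positivity
  have := Int.le_of_dvd h0 h
  nlinarith

theorem z_mem : z a m ∈ T := zpow_mem D.ha _

theorem r_mem : r a m ∈ T := zpow_mem D.ha _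

theorem z_comm_pow (j : ℤ) : z a m * a ^ j = a ^ j * z a m := by
  unfold z
  rw [← zpow_add, ← zpow_add, add_comm]

theorem z_comm_y : z a m * y = y * z a m := by
  have h1 : y * z a m * y⁻¹ = z a m := by
    unfold z
    rw [D.conj_y, D.zeq]
    obtain ⟨q, hq⟩ : ∃ q, δ = 2 * q + 1 := ⟨δ / 2, by have := D.δodd; omega⟩
    rw [hq]
    exact ⟨q, by ring⟩
  rw [mul_inv_eq_iff_eq_mul] at h1
  exact h1.symm

theorem z_comm {h : G} (hh : h ∈ T) : h * z a m = z a m * h := by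
  rcases D.hmem h hh with ⟨j, rfl⟩ | ⟨j, rfl⟩
  · exact (D.z_comm_pow j).symm
  · rw [mul_assoc, ← D.z_comm_y, ← mul_assoc, ← D.z_comm_pow, mul_assoc]

/-- square one in `⟨a⟩`. -/
theorem sq_pow {j : ℤ} (h : (a ^ j) ^ 2 = 1) : a ^ j = 1 ∨ a ^ j = z a m := by
  rw [← zpow_natCast, ← zpow_mul, D.zeq1] at h
  push_cast at h
  rw [pow_succ (2 : ℤ) (m + 1), mul_comm _ (2 : ℤ), mul_comm j, mul_dvd_mul_iff_left (by norm_num)] at h
  obtain ⟨d, rfl⟩ := h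
  rcases Int.emod_two_eq_zero_or_one d with hd | hd
  · left
    obtain ⟨d', rfl⟩ : ∃ d', d = 2 * d' := ⟨d / 2, by omega⟩
    rw [D.zeq1]
    exact ⟨d', by ring⟩
  · right
    obtain ⟨d', rfl⟩ : ∃ d', d = 2 * d' + 1 := ⟨d / 2, by omega⟩
    unfold z
    rw [D.zeq]
    exact ⟨d', by ring⟩

/-- An element of `a^(2^(m+1) ℤ)` is 1 or `z`. -/
theorem pow_of_dvd {k : ℤ} (h : (2 : ℤ) ^ (m + 1) ∣ k) : a ^ k = 1 ∨ a ^ k = z a m := by
  obtain ⟨d, rfl⟩ := h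
  rcases Int.emod_two_eq_zero_or_one d with hd | hd
  · left
    obtain ⟨d', rfl⟩ : ∃ d', d = 2 * d' := ⟨d / 2, by omega⟩
    rw [D.zeq1]
    exact ⟨d', by ring⟩
  · right
    obtain ⟨d', rfl⟩ : ∃ d', d = 2 * d' + 1 := ⟨d / 2, by omega⟩
    unfold z
    rw [D.zeq]
    exact ⟨d', by ring⟩

/-- The form of a non-central involution. -/
theorem inv_form {v : G} (hv : v ∈ T) (h2 : v ^ 2 = 1) (h1 : v ≠ 1) (hz : v ≠ z a m) :
    ∃ j : ℤ, v = a ^ j * y := by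
  rcases D.hmem v hv with ⟨j, rfl⟩ | h
  · rcases D.sq_pow h2 with h3 | h3
    · exact absurd h3 h1
    · exact absurd h3 hz
  · exact h

/-- The centralizer of a noncentral element of the coset `⟨a⟩y`. -/
theorem centralizer_form {v : G} (j : ℤ) (hvj : v = a ^ j * y) {h : G} (hh : h ∈ T)
    (hc : h * v = v * h) : h = 1 ∨ h = v ∨ h = z a m ∨ h = v * z a m := by
  subst hvj
  rcases D.hmem h hh with ⟨k, rfl⟩ | ⟨k, rfl⟩
  · rw [← mul_assoc, ← zpow_add, D.mul_y_pow, D.eq_y] at hc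
    have h3 : (2 : ℤ) ^ (m + 1) ∣ k := by
      apply D.dvd_of_sub_mul
      convert hc using 1
      ring
    rcases D.pow_of_dvd h3 with h4 | h4
    · exact Or.inl h4
    · exact Or.inr (Or.inr (Or.inl h4))
  · rw [D.mul_y_mul, D.mul_y_mul, D.zeq] at hc
    have h3 : (2 : ℤ) ^ (m + 1) ∣ k - j := by
      apply D.dvd_of_sub_mul
      convert hc using 1
      ring
    right
    rcases D.pow_of_dvd h3 with h4 | h4
    · left
      have : a ^ k = a ^ j := by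
        rw [zpow_sub, mul_inv_eq_one] at h4
        exact h4
      rw [this]
    · right; right
      have : a ^ k = a ^ j * z a m := by
        rw [zpow_sub, mul_inv_eq_iff_eq_mul] at h4
        rw [h4, D.z_comm_pow]
      rw [this, mul_assoc, mul_assoc, D.z_comm_y]

/-- `r` moves noncentral coset elements by `z`. -/
theorem r_conj (j : ℤ) : r a m * (a ^ j * y) * (r a m)⁻¹ = a ^ j * y * z a m := by
  unfold r
  have h1 : a ^ ((2 : ℤ) ^ m) * (a ^ j * y) * (a ^ ((2 : ℤ) ^ m))⁻¹ =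
      a ^ j * a ^ ((1 - δ) * 2 ^ m) * y := by
    have h2 : y * (a ^ ((2 : ℤ) ^ m))⁻¹ = a ^ (-(δ * 2 ^ m)) * y := by
      rw [← zpow_neg, D.y_mul, mul_neg]
    calc _ = a ^ ((2 : ℤ) ^ m) * a ^ j * (y * (a ^ ((2 : ℤ) ^ m))⁻¹) := by group
      _ = a ^ ((2 : ℤ) ^ m) * a ^ j * (a ^ (-(δ * 2 ^ m)) * y) := by rw [h2]
      _ = a ^ j * a ^ ((1 - δ) * 2 ^ m) * y := by
        rw [← mul_assoc, ← zpow_add, ← zpow_add, ← zpow_add]
        congr 2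
        ring
  rw [h1, mul_assoc (a ^ j) y, ← D.z_comm_y, ← mul_assoc (a ^ j)]
  congr 2
  unfold z
  rw [D.zeq]
  exact D.sub_mul_q

theorem r_conj' {v : G} (hv : v ∈ T) (h2 : v ^ 2 = 1) (h1 : v ≠ 1) (hz : v ≠ z a m) :
    r a m * v * (r a m)⁻¹ = v * z a m := by
  obtain ⟨j, rfl⟩ := D.inv_form hv h2 h1 hz
  exact D.r_conj j

end DS

end Cfsg.Agent.Lib.KleinSD
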