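import Cfsg.Agent.Lib.KleinSD.Fusion2
import Cfsg.Agent.Lib.KleinSD.Coord
import Cfsg.Agent.Lib.LocalStruct.ThompsonIdx
import Cfsg.Agent.Lib.Involutions2.Sign

/-!
# The contradiction: a perfect group with dihedral or semidihedral Sylow 2-subgroup `T` has no
extension by an element `w` centralizing `T` with `w^2 = z`.
-/

set_option autoImplicit false
set_option linter.unusedSectionVars false
set_option linter.unusedVariables false

namespace Cfsg.Agent.Lib.KleinSD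

open Subgroup Cfsg.Agent.Lib.PGroups.CyclicNormal

variable {G : Type*} [Group G] [Finite G]

theorem IsMax2.not_dvd_index {T K : Subgroup G} (h : IsMax2 T K) : ¬ 2 ∣ (T.subgroupOf K).index := by
  classical
  haveI : Fact (Nat.Prime 2) := ⟨Nat.prime_two⟩
  have hTp : IsPGroup 2 (T.subgroupOf K) := by
    rintro ⟨⟨t, htK⟩, ht⟩
    obtain ⟨k, hk⟩ := h.isP ⟨t, ht⟩
    refine ⟨k, ?_⟩
    apply Subtype.ext
    apply Subtype.ext
    have := congrArg Subtype.val hk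
    simpa using this
  let S : Sylow 2 K :=
    { toSubgroup := T.subgroupOf K
      isPGroup' := hTp
      is_maximal' := by
        intro R hR hTR
        apply le_antisymm _ hTR
        have hRm : IsPGroup 2 (R.map K.subtype) := hR.map _
        have hle : R.map K.subtype ≤ K := by
          rintro _ ⟨r, _, rfl⟩
          exact r.2
        have hTm : T ≤ R.map K.subtype := by
          intro t ht
          exact ⟨⟨t, h.le ht⟩, hTR (by simpa [mem_subgroupOf] using ht), rfl⟩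
        have := h.max _ hle hRm hTm
        intro r hr
        rw [mem_subgroupOf]
        exact this ⟨r, hr, rfl⟩ }
  exact S.not_dvd_index

theorem zpow_mul_comm_conj' {a : G} {k : ℤ} : a * a ^ k * a⁻¹ = a ^ k := by
  rw [(Commute.zpow_right (Commute.refl a) k).eq]
  group

namespace DS

variable {T : Subgroup G} {a y : G} {m : ℕ} {δ : ℤ} (D : DS T a y m δ)

/-- The maximal subgroup `⟨a²⟩ ∪ ⟨a²⟩ a y`. -/
def T0 (D : DS T a y m δ) : Subgroup G where
  carrier := {t | (∃ j : ℤ, t = a ^ (2 * j)) ∨ ∃ j : ℤ, t = a ^ (2 * j + 1) * y}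
  one_mem' := Or.inl ⟨0, by simp⟩
  mul_mem' := by
    obtain ⟨q, hq⟩ : ∃ q, δ = 2 * q + 1 := ⟨δ / 2, by have := D.δodd; omega⟩
    rintro x x' (⟨i, rfl⟩ | ⟨i, rfl⟩) (⟨j, rfl⟩ | ⟨j, rfl⟩)
    · left
      exact ⟨i + j, by rw [← zpow_add]; congr 1; ring⟩
    · right
      exact ⟨i + j, by rw [← mul_assoc, ← zpow_add]; congr 2; ring⟩
    · right
      refine ⟨i + δ * j, ?_⟩
      rw [D.mul_y_pow]
      congr 2
      ring
    · left
      refine ⟨i + q * (2 * j + 1) + j + 1, ?_⟩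
      rw [D.mul_y_mul, hq]
      congr 1
      ring
  inv_mem' := by
    obtain ⟨q, hq⟩ : ∃ q, δ = 2 * q + 1 := ⟨δ / 2, by have := D.δodd; omega⟩
    rintro x (⟨i, rfl⟩ | ⟨i, rfl⟩)
    · left
      exact ⟨-i, by rw [← zpow_neg]; congr 1; ring⟩
    · right
      refine ⟨-(q * (2 * i + 1)) - i - 1, ?_⟩
      rw [mul_inv_rev, D.yinv, ← zpow_neg, D.y_mul]
      congr 2
      rw [hq]
      ring

theorem T0_le : D.T0 ≤ T := by
  rintro x (⟨i, rfl⟩ | ⟨i, rfl⟩)
  · exact zpow_mem D.ha _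
  · exact mul_mem (zpow_mem D.ha _) D.hy

theorem y_notMem_T0 : y ∉ D.T0 := by
  rintro (⟨i, hi⟩ | ⟨i, hi⟩)
  · exact D.hyM (hi ▸ zpow_mem (mem_zpowers a) _)
  · have h1 : a ^ (2 * i + 1) = 1 := by
      have : a ^ (2 * i + 1) * y = 1 * y := by rw [← hi, one_mul]
      exact mul_right_cancel this
    rw [D.zeq1] at h1
    rw [pow_succ] at h1
    obtain ⟨c, hc⟩ := h1
    have : (2 : ℤ) * i + 1 = 2 * (2 ^ (m + 1) * c) + 0 + 0 := by
      rw [hc]; ring
    omega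

theorem relIndex_T0 : (D.T0.subgroupOf T).index = 2 := by
  rw [Subgroup.index_eq_two_iff]
  refine ⟨⟨y, D.hy⟩, fun b => ?_⟩
  obtain ⟨b, hb⟩ := b
  simp only [mem_subgroupOf, MulMemClass.mk_mul_mk]
  have hyny := D.y_notMem_T0
  -- `b ∈ T₀ → b * y ∉ T₀`, `b ∉ T₀ → b * y ∈ T₀`
  have hmy : ∀ x ∈ D.T0, x * y ∉ D.T0 := by
    intro x hx h0
    apply hyny
    have h3 : x⁻¹ * (x * y) ∈ D.T0 := mul_mem (inv_mem hx) h0
    simpa using h3
  by_cases hbT : b ∈ D.T0
  · exact Or.inr ⟨hbT, hmy b hbT⟩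
  · refine Or.inl ⟨?_, hbT⟩
    rcases D.hmem b hb with ⟨j, rfl⟩ | ⟨j, rfl⟩
    · rcases Int.emod_two_eq_zero_or_one j with hj | hj
      · exfalso
        apply hbT
        obtain ⟨j', rfl⟩ : ∃ j', j = 2 * j' := ⟨j / 2, by omega⟩
        exact Or.inl ⟨j', rfl⟩
      · obtain ⟨j', rfl⟩ : ∃ j', j = 2 * j' + 1 := ⟨j / 2, by omega⟩
        exact Or.inr ⟨j', rfl⟩
    · rcases Int.emod_two_eq_zero_or_one j with hj | hj
      · rw [mul_assoc, D.yy, mul_one]
        obtain ⟨j', rfl⟩ : ∃ j', j = 2 * j' := ⟨j / 2, by omega⟩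
        exact Or.inl ⟨j', rfl⟩
      · exfalso
        apply hbT
        obtain ⟨j', rfl⟩ : ∃ j', j = 2 * j' + 1 := ⟨j / 2, by omega⟩
        exact Or.inr ⟨j', rfl⟩

/-- Thompson transfer. -/
theorem thompson {A : Subgroup G} (hT : IsMax2 T A) (hperf : ∀ (f : A →* ℤˣ) (g : A), f g = 1) :
    ∃ c ∈ A, c * y * c⁻¹ ∈ D.T0 := by
  have hTA := hT.le
  have hT0A : D.T0 ≤ A := D.T0_le.trans hTA
  have hrel : (D.T0.subgroupOf A).relIndex (T.subgroupOf A) = 2 := by
    rw [← D.relIndex_T0]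
    rw [Subgroup.subgroupOf, Subgroup.relIndex_comap]
    have : (T.subgroupOf A).map A.subtype = T := by
      rw [Subgroup.subgroupOf, Subgroup.map_comap_eq]
      simpa using hTA
    rw [this]
    rfl
  have hyA : y ∈ A := hTA D.hy
  obtain ⟨g, hg, -⟩ := Cfsg.Agent.Lib.LocalStruct.ThompsonIdx.exists_conj_mem hperf
    (H := T.subgroupOf A) (K := D.T0.subgroupOf A) hT.not_dvd_index
    (fun x hx => D.T0_le hx) hrel (x := ⟨y, hyA⟩) 1
    (by apply Subtype.ext; simpa using D.hy2)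
    (by
      intro k hk hk2 g _
      have hk' : k = 2 := by
        rcases (Nat.dvd_prime_pow Nat.prime_two).mp hk2 with ⟨i, hi, rfl⟩
        have : i = 0 ∨ i = 1 := by omega
        rcases this with rfl | rfl
        · exact absurd rfl hk
        · rfl
      subst hk'
      have : (⟨y, hyA⟩ : A) ^ 2 = 1 := by apply Subtype.ext; simpa using D.hy2
      rw [this]
      simp only [mul_one, inv_mul_cancel]
      exact one_mem _)
    ⊥ (IsPGroup.of_bot) (by simp)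
  refine ⟨(g⁻¹ : A), (g⁻¹ : A).2, ?_⟩
  rw [mem_subgroupOf] at hg
  simpa using hg

include D

theorem y_ne_z : y ≠ z a m := by
  intro h
  apply D.hyM
  rw [h]
  exact zpow_mem (mem_zpowers a) _

theorem y_ne_one : y ≠ 1 := by
  intro h
  apply D.hyM
  rw [h]
  exact one_mem _

theorem z_mem_T0 : z a m ∈ D.T0 := by
  left
  refine ⟨2 ^ m, ?_⟩
  unfold z
  congr 1
  ring

theorem T0_conj_y {x : G} (hx : x ∈ D.T0) : y * x * y⁻¹ ∈ D.T0 := by
  obtain ⟨q, hq⟩ : ∃ q, δ = 2 * q + 1 := ⟨δ / 2, by have := D.δodd; omega⟩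
  rcases hx with ⟨j, rfl⟩ | ⟨j, rfl⟩
  · left
    refine ⟨δ * j, ?_⟩
    rw [D.conj_y]
    congr 1
    ring
  · right
    refine ⟨q * (2 * j + 1) + j, ?_⟩
    have e : y * (a ^ (2 * j + 1) * y) * y⁻¹ = y * a ^ (2 * j + 1) := by group
    rw [e, D.y_mul]
    have : a ^ (δ * (2 * j + 1)) = a ^ (2 * (q * (2 * j + 1) + j) + 1) := by
      congr 1
      rw [hq]
      ring
    rw [this]

/-- The semidihedral case. -/
theorem sd_false {A : Subgroup G} {w : G} (hδ : 1 ≤ m ∧ δ = 2 ^ (m + 1) - 1)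
    (C : Ctx A T (z a m) (r a m) w) (hperf : ∀ (f : A →* ℤˣ) (g : A), f g = 1) : False := by
  obtain ⟨c, hcA, hc⟩ := D.thompson C.hT hperf
  have hu2 : (c * y * c⁻¹) ^ 2 = 1 := by
    rw [conj_pow, D.hy2]; group
  have hu1 : c * y * c⁻¹ ≠ 1 := by
    intro h0
    apply D.y_ne_one
    apply Ctx.conj_cancel (h := c)
    rw [h0]; group
  have huz := C.y_ne_conj_z D.hy D.y_ne_z hcA
  rcases hc with ⟨j, hj⟩ | ⟨j, hj⟩
  · rw [hj] at hu2 hu1 huz
    rcases D.sq_pow hu2 with h3 | h3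
    · exact hu1 h3
    · exact huz h3
  · rw [hj, D.pow_y_sq, D.zeq1, hδ.2] at hu2
    obtain ⟨e, he⟩ := hu2
    have : (2 * j + 1) + (2 ^ (m + 1) - 1) * (2 * j + 1) = 2 ^ (m + 1) * (2 * j + 1) := by ring
    rw [this, pow_succ (2 : ℤ) (m + 1), mul_assoc, mul_right_inj' (by positivity)] at he
    omega

/-- The sign homomorphism of the centralizer of `r`. -/
theorem sign_contra {A : Subgroup G} {w : G} (hδ : δ = -1)
    (C : Ctx A T (z a m) (r a m) w) {c : G} (hcA : c ∈ A) (hcr : c * r a m * c⁻¹ = r a m) {j : ℤ}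
    (hcy : c * y * c⁻¹ = a ^ (2 * j + 1) * y) : False := by
  classical
  set ρ := r a m with hρ
  -- conjugates of `r`
  have hy_r : y * ρ * y⁻¹ = ρ⁻¹ := by
    rw [hρ]
    unfold DS.r
    rw [D.conj_y, hδ, ← zpow_neg]
    congr 1
    ring
  have hrr : ∀ t ∈ T, t⁻¹ * ρ * t = ρ ∨ t⁻¹ * ρ * t = ρ⁻¹ := by
    intro t ht
    have hcomm : ∀ i : ℤ, (a ^ i)⁻¹ * ρ * a ^ i = ρ := by
      intro i
      rw [hρ]
      unfold DS.r
      rw [← zpow_neg, ← zpow_add, ← zpow_add]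
      congr 1
      ring
    rcases D.hmem t ht with ⟨i, rfl⟩ | ⟨i, rfl⟩
    · exact Or.inl (hcomm i)
    · right
      rw [mul_inv_rev, D.yinv]
      calc y * (a ^ i)⁻¹ * ρ * (a ^ i * y) = y * ((a ^ i)⁻¹ * ρ * a ^ i) * y := by group
        _ = y * ρ * y⁻¹ := by rw [hcomm, D.yinv]
        _ = ρ⁻¹ := hy_r
  let C₀ : Subgroup G := A ⊓ centralizer ({ρ} : Set G)
  have hmemC₀ : ∀ x : G, x ∈ A → x * ρ * x⁻¹ = ρ → x ∈ C₀ := by
    intro x hx h0
    refine Subgroup.mem_inf.mpr ⟨hx, ?_⟩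
    rw [mem_centralizer_iff]
    rintro _ rfl
    rw [mul_inv_eq_iff_eq_mul] at h0
    exact h0.symm
  have hC₀conj : ∀ x ∈ C₀, x * ρ * x⁻¹ = ρ := by
    intro x hx
    have := mem_centralizer_iff.mp hx.2 ρ rfl
    rw [← this]
    group
  have hTnorm : ∀ t ∈ T, ∀ x ∈ C₀, t * x * t⁻¹ ∈ C₀ := by
    intro t ht x hx
    refine hmemC₀ _ (mul_mem (mul_mem (C.hT.le ht) hx.1) (inv_mem (C.hT.le ht))) ?_
    have h1 := hC₀conj x hx
    have h2 : x * ρ⁻¹ * x⁻¹ = ρ⁻¹ := by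
      rw [← conj_inv, h1]
    have hconj : t * x * t⁻¹ * ρ * (t * x * t⁻¹)⁻¹ = t * (x * (t⁻¹ * ρ * t) * x⁻¹) * t⁻¹ := by
      group
    rw [hconj]
    rcases hrr t ht with h3 | h3
    · have h4 : t * ρ * t⁻¹ = ρ := by
        nth_rewrite 1 [← h3]; group
      rw [h3, h1, h4]
    · have h4 : t * ρ⁻¹ * t⁻¹ = ρ := by
        rw [← h3]; group
      rw [h3, h2, h4]
  let K : Subgroup G := A ⊓ normalizer (C₀ : Set G)
  have hTK : T ≤ K := fun t ht =>
    Subgroup.mem_inf.mpr ⟨C.hT.le ht, mem_normalizer_of_conj_mem (hTnorm t ht)⟩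
  have hC₀K : C₀ ≤ K := fun x hx =>
    Subgroup.mem_inf.mpr ⟨hx.1, le_normalizer hx⟩
  have hmaxK : IsMax2 T K := C.hT.of_le hTK inf_le_left
  have hmax := hmaxK.inf_normal hC₀K (fun k hk c hc =>
    (mem_normalizer_iff.mp (show k ∈ normalizer (C₀ : Set G) from hk.2) c).mp hc)
  have haC₀ : a ∈ C₀ := by
    apply hmemC₀ a (C.hT.le D.ha)
    have := zpow_mul_comm_conj' (a := a) (k := (2 : ℤ) ^ m)
    exact this
  have hTC : T ⊓ C₀ = zpowers a := by
    apply le_antisymm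
    · intro t ht
      rcases D.hmem t ht.1 with ⟨i, rfl⟩ | ⟨i, rfl⟩
      · exact zpow_mem (mem_zpowers a) _
      · exfalso
        have h1 := hC₀conj _ ht.2
        have h2 : (a ^ i * y) * ρ * (a ^ i * y)⁻¹ = ρ⁻¹ := by
          calc (a ^ i * y) * ρ * (a ^ i * y)⁻¹ = a ^ i * (y * ρ * y⁻¹) * (a ^ i)⁻¹ := by group
            _ = a ^ i * ρ⁻¹ * (a ^ i)⁻¹ := by rw [hy_r]
            _ = ρ⁻¹ := by
              rw [hρ]
              unfold DS.r
              rw [← zpow_neg, ← zpow_neg, ← zpow_add, ← zpow_add]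
              congr 1
              ring
        rw [h2] at h1
        -- `ρ⁻¹ = ρ` contradicts `ρ² = z ≠ 1`
        have h3 : ρ ^ 2 = 1 := by
          rw [sq]
          nth_rewrite 1 [← h1]
          group
        rw [hρ, D.r_sq] at h3
        exact D.z_ne_one h3
    · rw [zpowers_le]
      exact Subgroup.mem_inf.mpr ⟨D.ha, haC₀⟩
  rw [hTC] at hmax
  -- the sign
  letI : Fintype C₀ := Fintype.ofFinite _
  let φ : C₀ →* ℤˣ := Equiv.Perm.sign.comp (MulAction.toPermHom C₀ C₀)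
  have hφa : φ ⟨a, haC₀⟩ = -1 := by
    show Equiv.Perm.sign (MulAction.toPerm (⟨a, haC₀⟩ : C₀)) = -1
    have hpow : ∀ k : ℕ, ∀ x : C₀,
        ((MulAction.toPerm (⟨a, haC₀⟩ : C₀) : Equiv.Perm C₀) ^ k) x = (⟨a, haC₀⟩ : C₀) ^ k * x := by
      intro k x
      have : ((MulAction.toPerm (⟨a, haC₀⟩ : C₀) : Equiv.Perm C₀) ^ k) =
          MulAction.toPermHom C₀ C₀ ((⟨a, haC₀⟩ : C₀) ^ k) := by
        rw [map_pow]
        rfl
      rw [this]
      rfl
    have h1 := Cfsg.Agent.Lib.Involutions2.Sign.sign_of_free_pow_two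
      (MulAction.toPerm (⟨a, haC₀⟩ : C₀) : Equiv.Perm C₀) (k := m + 2) (by omega)
      (by
        ext x
        rw [hpow]
        have : (⟨a, haC₀⟩ : C₀) ^ (2 ^ (m + 2)) = 1 := by
          apply Subtype.ext
          show a ^ (2 ^ (m + 2)) = 1
          rw [← D.hao, pow_orderOf_eq_one]
        rw [this, one_mul]
        rfl)
      (by
        intro x
        rw [hpow]
        intro h0
        have h2 : (⟨a, haC₀⟩ : C₀) ^ (2 ^ (m + 2 - 1)) = 1 := by
          have := mul_right_cancel (a := (⟨a, haC₀⟩ : C₀) ^ (2 ^ (m + 2 - 1))) (b := x) (c := 1) (by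
            rw [one_mul]; exact h0)
          exact this
        have h3 : a ^ (2 ^ (m + 2 - 1)) = 1 := congrArg Subtype.val h2
        apply D.z_ne_one
        unfold DS.z
        rw [← h3, ← zpow_natCast]
        push_cast
        rfl)
    rw [h1]
    have hcard : Fintype.card C₀ / 2 ^ (m + 2) = ((zpowers a).subgroupOf C₀).index := by
      rw [← Nat.card_eq_fintype_card]
      have h3 := Subgroup.card_mul_index ((zpowers a).subgroupOf C₀)
      have h4 : Nat.card ((zpowers a).subgroupOf C₀) = 2 ^ (m + 2) := by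
        have h5 : Nat.card ((zpowers a).subgroupOf C₀) = Nat.card (zpowers a) := by
          apply Nat.card_congr
          exact (Subgroup.subgroupOfEquivOfLe (show zpowers a ≤ C₀ from hmax.le)).toEquiv
        rw [h5, Nat.card_zpowers, D.hao]
      rw [h4] at h3
      rw [← h3]
      exact Nat.mul_div_cancel_left _ (by positivity)
    rw [hcard]
    have hodd := hmax.not_dvd_index
    rw [Odd.neg_one_pow (by rwa [← Nat.not_even_iff_odd, even_iff_two_dvd])]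
  -- invariance under `y`
  have hyC := hTnorm y D.hy
  have hyinvC : ∀ x ∈ C₀, y⁻¹ * x * y ∈ C₀ := by
    intro x hx
    have := hTnorm y⁻¹ (inv_mem D.hy) x hx
    simpa using this
  let σ : C₀ ≃ C₀ :=
    { toFun := fun x => ⟨y * x * y⁻¹, hyC x x.2⟩
      invFun := fun x => ⟨y⁻¹ * x * y, hyinvC x x.2⟩
      left_inv := fun x => Subtype.ext (by simp [mul_assoc])
      right_inv := fun x => Subtype.ext (by simp [mul_assoc]) }
  have hinv : ∀ x : C₀, φ (σ x) = φ x := by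
    intro x
    show Equiv.Perm.sign (MulAction.toPerm (σ x)) = Equiv.Perm.sign (MulAction.toPerm x)
    rw [← Equiv.Perm.sign_symm_trans_trans (MulAction.toPerm x) σ]
    congr 1
    ext g
    simp [σ, MulAction.toPerm, mul_assoc]
  -- the contradiction
  have hcC₀ : c ∈ C₀ := hmemC₀ c hcA hcr
  have heq : (⟨a, haC₀⟩ : C₀) ^ (2 * j + 1) = ⟨c, hcC₀⟩ * σ (⟨c, hcC₀⟩⁻¹) := by
    apply Subtype.ext
    simp only [σ]
    show a ^ (2 * j + 1) = c * (y * c⁻¹ * y⁻¹)
    have h1 : a ^ (2 * j + 1) = (c * y * c⁻¹) * y⁻¹ := by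
      rw [hcy]; group
    rw [h1]
    group
  have h1 := congrArg φ heq
  rw [map_zpow, hφa, map_mul, hinv, map_inv, mul_inv_cancel] at h1
  rw [zpow_add, zpow_mul, zpow_one] at h1
  have h2 : ((-1 : ℤˣ) ^ (2 : ℤ)) = 1 := by decide
  rw [h2, one_zpow, one_mul] at h1
  exact absurd h1 (by decide)

/-- The dihedral case. -/
theorem d_false {A : Subgroup G} {w : G} (hδ : δ = -1)
    (C : Ctx A T (z a m) (r a m) w) (hperf : ∀ (f : A →* ℤˣ) (g : A), f g = 1) : False := by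
  obtain ⟨c, hcA, hc⟩ := D.thompson C.hT hperf
  have hconj2 : ∀ x : G, (x * y * x⁻¹) ^ 2 = 1 := by
    intro x
    rw [conj_pow, D.hy2]; group
  have hconj1 : ∀ x : G, x * y * x⁻¹ ≠ 1 := by
    intro x h0
    apply D.y_ne_one
    apply Ctx.conj_cancel (h := x)
    rw [h0]; group
  have hzT0 := D.z_mem_T0
  obtain ⟨c₂, hc₂A, hc₂v, hc₂z, hc₂r⟩ := C.exists_c2 D.hy D.hy2 D.y_ne_one D.y_ne_z (D.T0_le hc)
    (hconj2 c) (hconj1 c) (C.y_ne_conj_z D.hy D.y_ne_z hcA) hcA rfl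
  have hc₂T0 : c₂ * y * c₂⁻¹ ∈ D.T0 := by
    rcases hc₂v with h | h
    · rw [h]; exact hc
    · rw [h]; exact mul_mem hc hzT0
  -- `r' = r^{±1}`
  have hr'2 : (c₂ * r a m * c₂⁻¹) ^ 2 = z a m := by
    rw [conj_pow, D.r_sq, hc₂z]
  have hrinv : (r a m)⁻¹ = r a m * z a m := by
    rw [inv_eq_iff_mul_eq_one]
    rw [← mul_assoc, ← sq, D.r_sq, ← sq, D.z_sq]
  have hform : c₂ * r a m * c₂⁻¹ = r a m ∨ c₂ * r a m * c₂⁻¹ = (r a m)⁻¹ := by
    rcases D.hmem _ hc₂r with ⟨i, hi⟩ | ⟨i, hi⟩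
    · rw [hi] at hr'2 ⊢
      rw [← zpow_natCast, ← zpow_mul] at hr'2
      unfold DS.z at hr'2
      rw [D.zeq] at hr'2
      have h2 : (2 : ℤ) ^ (m + 1) ∣ i - 2 ^ m := by
        rw [pow_succ (2 : ℤ) (m + 1)] at hr'2
        have e : i * ((2 : ℕ) : ℤ) - 2 ^ (m + 1) = (i - 2 ^ m) * 2 := by
          push_cast; ring
        rw [e] at hr'2
        exact (mul_dvd_mul_iff_right (by norm_num)).mp hr'2
      obtain ⟨e, he⟩ := h2
      rcases Int.emod_two_eq_zero_or_one e with he2 | he2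
      · left
        obtain ⟨e', rfl⟩ : ∃ e', e = 2 * e' := ⟨e / 2, by omega⟩
        unfold DS.r
        rw [D.zeq, he]
        exact ⟨e', by ring⟩
      · right
        obtain ⟨e', rfl⟩ : ∃ e', e = 2 * e' + 1 := ⟨e / 2, by omega⟩
        rw [hrinv]
        unfold DS.r DS.z
        rw [← zpow_add, D.zeq]
        refine ⟨e', ?_⟩
        rw [show i = 2 ^ m + 2 ^ (m + 1) * (2 * e' + 1) by linarith]
        ring
    · exfalso
      rw [hi, D.pow_y_sq, hδ] at hr'2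
      apply D.z_ne_one
      rw [← hr'2]
      simp
  -- the element centralizing `r`
  obtain ⟨c₃, hc₃A, hc₃r, hc₃T0⟩ : ∃ c₃ ∈ A, c₃ * r a m * c₃⁻¹ = r a m ∧ c₃ * y * c₃⁻¹ ∈ D.T0 := by
    rcases hform with h | h
    · exact ⟨c₂, hc₂A, h, hc₂T0⟩
    · refine ⟨y * c₂, mul_mem (C.hT.le D.hy) hc₂A, ?_, ?_⟩
      · have h1 : y * r a m * y⁻¹ = (r a m)⁻¹ := by
          unfold DS.r
          rw [D.conj_y, hδ, ← zpow_neg]
          congr 1
          ring
        calc y * c₂ * r a m * (y * c₂)⁻¹ = y * (c₂ * r a m * c₂⁻¹) * y⁻¹ := by group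
          _ = y * (r a m)⁻¹ * y⁻¹ := by rw [h]
          _ = (y * r a m * y⁻¹)⁻¹ := by group
          _ = r a m := by rw [h1, inv_inv]
      · have := D.T0_conj_y hc₂T0
        convert this using 1
        group
  rcases hc₃T0 with ⟨j, hj⟩ | ⟨j, hj⟩
  · have h2 := hconj2 c₃
    rw [hj] at h2
    rcases D.sq_pow h2 with h3 | h3
    · exact hconj1 c₃ (by rw [hj, h3])
    · exact C.y_ne_conj_z D.hy D.y_ne_z hc₃A (by rw [hj, h3])
  · exact D.sign_contra hδ C hc₃A hc₃r hj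

end DS

end Cfsg.Agent.Lib.KleinSD
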