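import Cfsg.Agent.Lib.KleinSD.Coord

/-!
# Four-groups of automorphisms of dihedral and semidihedral groups

If a four-group acts on `T` (dihedral or semidihedral) and no involution of it fixes a noncentral
involution of `T`, then one of its involutions induces an inner automorphism.
-/

set_option autoImplicit false
set_option linter.unusedSectionVars false
set_option linter.unusedVariables false

namespace Cfsg.Agent.Lib.KleinSD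

open Subgroup Cfsg.Agent.Lib.PGroups.CyclicNormal

variable {G : Type*} [Group G]

namespace DS

variable {T : Subgroup G} {a y : G} {m : ℕ} {δ : ℤ} (D : DS T a y m δ)
include D

/-- The hypotheses on an involution acting on `T`. -/
structure Adm (D : DS T a y m δ) (t : G) : Prop where
  ht2 : t ^ 2 = 1
  htT : ∀ h ∈ T, t * h * t⁻¹ ∈ T
  hta : t * a * t⁻¹ ∈ zpowers a
  hfix : ∀ v ∈ T, v ^ 2 = 1 → v ≠ 1 → v ≠ z a m → t * v * t⁻¹ ≠ v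

omit D in
theorem zpow_mul_comm_conj {a : G} {k : ℤ} : a ^ k * a * (a ^ k)⁻¹ = a := by
  rw [(Commute.zpow_left (Commute.refl a) k).eq]
  group

theorem tinv {t : G} (h : t ^ 2 = 1) : t⁻¹ = t := by
  rw [inv_eq_iff_mul_eq_one, ← sq, h]

theorem agree {t g : G} (h1 : g * a * g⁻¹ = t * a * t⁻¹) (h2 : g * y * g⁻¹ = t * y * t⁻¹) {h : G}
    (hh : h ∈ T) : t * h * t⁻¹ = g * h * g⁻¹ := by
  have h3 : ∀ j : ℤ, t * a ^ j * t⁻¹ = g * a ^ j * g⁻¹ := by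
    intro j
    rw [← conj_zpow, ← conj_zpow, h1]
  rcases D.hmem h hh with ⟨j, rfl⟩ | ⟨j, rfl⟩
  · exact h3 j
  · calc t * (a ^ j * y) * t⁻¹ = (t * a ^ j * t⁻¹) * (t * y * t⁻¹) := by group
      _ = (g * a ^ j * g⁻¹) * (g * y * g⁻¹) := by rw [h3, h2]
      _ = g * (a ^ j * y) * g⁻¹ := by group

/-- Coordinates. -/
theorem exists_coord {t : G} (H : D.Adm t) :
    ∃ r b : ℤ, t * a * t⁻¹ = a ^ r ∧ t * y * t⁻¹ = a ^ b * y := by
  obtain ⟨r, hr⟩ := mem_zpowers_iff.mp H.hta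
  refine ⟨r, ?_⟩
  rcases D.hmem _ (H.htT y D.hy) with ⟨j, hj⟩ | ⟨b, hb⟩
  · exfalso
    apply D.hyM
    have h1 : y = t⁻¹ * (t * y * t⁻¹) * t := by group
    rw [h1, hj, tinv D H.ht2]
    have h2 : t * a ^ j * t⁻¹ ∈ zpowers a := by
      rw [← conj_zpow]
      exact zpow_mem H.hta _
    rw [tinv D H.ht2] at h2
    exact h2
  · exact ⟨b, hr.symm, hb⟩

section coord

variable {t : G} (H : D.Adm t) {r b : ℤ} (hr : t * a * t⁻¹ = a ^ r) (hb : t * y * t⁻¹ = a ^ b * y)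
include H hr hb

theorem conj_coset (j : ℤ) : t * (a ^ j * y) * t⁻¹ = a ^ (r * j + b) * y := by
  calc t * (a ^ j * y) * t⁻¹ = (t * a ^ j * t⁻¹) * (t * y * t⁻¹) := by group
    _ = a ^ (r * j) * (a ^ b * y) := by rw [conj_zpow_of hr, hb]
    _ = _ := by rw [zpow_add, mul_assoc]

theorem rsq : (2 : ℤ) ^ (m + 2) ∣ r * r - 1 := by
  have h1 : t * (t * a * t⁻¹) * t⁻¹ = a := by
    have h2 : t * t = 1 := by rw [← sq, H.ht2]
    calc t * (t * a * t⁻¹) * t⁻¹ = (t * t) * a * (t * t)⁻¹ := by group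
      _ = a := by rw [h2]; group
  rw [hr, conj_zpow_of hr] at h1
  nth_rewrite 2 [← zpow_one a] at h1
  rwa [D.zeq] at h1

theorem rbsq : (2 : ℤ) ^ (m + 2) ∣ (r + 1) * b := by
  have h1 : t * (t * y * t⁻¹) * t⁻¹ = y := by
    have h2 : t * t = 1 := by rw [← sq, H.ht2]
    calc t * (t * y * t⁻¹) * t⁻¹ = (t * t) * y * (t * t)⁻¹ := by group
      _ = y := by rw [h2]; group
  rw [hb, conj_coset D H hr hb] at h1
  have h2 : a ^ (r * b + b) * y = a ^ (0 : ℤ) * y := by rw [h1]; simp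
  rw [D.eq_y] at h2
  convert h2 using 1
  ring

/-- The non-fixing condition in coordinates. -/
theorem no_fix (c : ℤ) (hc : (a ^ c * y) ^ 2 = 1) : ¬ (2 : ℤ) ^ (m + 2) ∣ (r - 1) * c + b := by
  intro hdvd
  have hcT : a ^ c * y ∈ T := mul_mem (zpow_mem D.ha _) D.hy
  refine H.hfix _ hcT hc ?_ ?_ ?_
  · intro h
    exact D.ne_y c 0 (by rw [h]; simp)
  · intro h
    exact D.ne_y c _ h
  · rw [conj_coset D H hr hb, D.eq_y]
    convert hdvd using 1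
    ring

/-- Case `r ≡ 1`. -/
theorem inner_of_one (hr1 : (2 : ℤ) ^ (m + 2) ∣ r - 1) :
    ∃ g ∈ T, g ^ 2 = z a m ∧ ∀ h ∈ T, t * h * t⁻¹ = g * h * g⁻¹ := by
  refine ⟨DS.r a m, D.r_mem, D.r_sq, fun h hh => ?_⟩
  have h0 := no_fix D H hr hb 0 (by simp [D.hy2])
  have h1 := rbsq D H hr hb
  have h2 : (2 : ℤ) ^ (m + 2) ∣ 2 * b := by
    have h3 : (2 : ℤ) ^ (m + 2) ∣ (r - 1) * b := Dvd.dvd.mul_right hr1 b
    have e : 2 * b = (r + 1) * b - (r - 1) * b := by ring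
    rw [e]
    exact dvd_sub h1 h3
  have h4 : (2 : ℤ) ^ (m + 1) ∣ b := by
    rw [pow_succ (2 : ℤ) (m + 1), mul_comm _ (2 : ℤ), mul_dvd_mul_iff_left (by norm_num)] at h2
    exact h2
  obtain ⟨d, rfl⟩ := h4
  have hz : a ^ ((2 : ℤ) ^ (m + 1) * d) = z a m := by
    unfold z
    rw [D.zeq]
    rcases Int.emod_two_eq_zero_or_one d with hd | hd
    · exfalso
      apply h0
      obtain ⟨d', rfl⟩ : ∃ d', d = 2 * d' := ⟨d / 2, by omega⟩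
      exact ⟨d', by ring⟩
    · obtain ⟨d', rfl⟩ : ∃ d', d = 2 * d' + 1 := ⟨d / 2, by omega⟩
      exact ⟨d', by ring⟩
  apply agree D _ _ hh
  · rw [hr]
    have : a ^ r = a := by
      nth_rewrite 2 [← zpow_one a]
      rw [D.zeq]
      exact hr1
    rw [this]
    unfold DS.r
    rw [zpow_mul_comm_conj]
  · rw [hb, hz]
    have := D.r_conj 0
    simp only [zpow_zero, one_mul] at this
    rw [this, D.z_comm_y]

/-- Dihedral case, `r ≡ 1 mod 4`. -/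
theorem dihedral_one (hδ : δ = -1) (h4 : r % 4 = 1) : (2 : ℤ) ^ (m + 2) ∣ r - 1 := by
  have hsq : ∀ c : ℤ, (a ^ c * y) ^ 2 = 1 := by
    intro c
    rw [D.pow_y_sq, hδ]
    simp
  have hrsq := rsq D H hr hb
  obtain ⟨e, he⟩ := dvd_sub_one (k := m + 1) (r := r) (by
    rwa [show r ^ 2 - 1 = r * r - 1 by ring]) h4
  rcases Nat.eq_zero_or_pos m with rfl | hm
  · simp only [zero_add, pow_two] at *
    obtain ⟨q, rfl⟩ : ∃ q, r = 4 * q + 1 := ⟨r / 4, by omega⟩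
    exact ⟨q, by ring⟩
  obtain ⟨m', rfl⟩ : ∃ m', m = m' + 1 := ⟨m - 1, by omega⟩
  have h1 := rbsq D H hr hb
  -- `2^(m+1) ∣ b`
  have hbd : (2 : ℤ) ^ (m' + 1 + 1) ∣ b := by
    have hr1 : r + 1 = 2 * (1 + 2 ^ (m' + 1) * e) := by
      have : r = 2 ^ (m' + 1 + 1) * e + 1 := by linarith
      rw [this]; ring
    rw [hr1, mul_assoc, pow_succ' (2 : ℤ) (m' + 1 + 1), mul_dvd_mul_iff_left (by norm_num)] at h1
    have hcop : IsCoprime (1 + 2 ^ (m' + 1) * e) ((2 : ℤ) ^ (m' + 1 + 1)) := by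
      apply IsCoprime.pow_right
      exact ⟨1, -(2 ^ m' * e), by ring⟩
    exact hcop.symm.dvd_of_dvd_mul_left h1
  obtain ⟨b', rfl⟩ := hbd
  rcases Int.emod_two_eq_zero_or_one e with he2 | he2
  · obtain ⟨e', rfl⟩ : ∃ e', e = 2 * e' := ⟨e / 2, by omega⟩
    rw [he]
    exact ⟨e', by ring⟩
  · exfalso
    obtain ⟨e', rfl⟩ : ∃ e', e = 2 * e' + 1 := ⟨e / 2, by omega⟩
    apply no_fix D H hr hb b' (hsq b')
    rw [he]
    exact ⟨b' * (e' + 1), by ring⟩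

/-- Dihedral case, `r ≡ 3 mod 4`. -/
theorem dihedral_three (hδ : δ = -1) (h4 : r % 4 = 3) : (2 : ℤ) ^ (m + 2) ∣ r + 1 := by
  have hsq : ∀ c : ℤ, (a ^ c * y) ^ 2 = 1 := by
    intro c
    rw [D.pow_y_sq, hδ]
    simp
  have hrsq := rsq D H hr hb
  obtain ⟨e, he⟩ := dvd_add_one (k := m + 1) (r := r) (by
    rwa [show r ^ 2 - 1 = r * r - 1 by ring]) h4
  have h1 := rbsq D H hr hb
  -- `b` is odd
  have hbodd : b % 2 = 1 := by
    by_contra hb2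
    obtain ⟨b₂, rfl⟩ : ∃ b₂, b = 2 * b₂ := ⟨b / 2, by omega⟩
    obtain ⟨f, rfl⟩ : ∃ f, r = 4 * f + 3 := ⟨r / 4, by omega⟩
    have hcop : IsCoprime (2 * f + 1) ((2 : ℤ) ^ (m + 1)) := by
      apply IsCoprime.pow_right
      exact ⟨1, -f, by ring⟩
    obtain ⟨u, v, huv⟩ := hcop
    apply no_fix D H hr hb (-b₂ * u) (hsq _)
    refine ⟨b₂ * v, ?_⟩
    have : (4 * f + 3 - 1) * (-b₂ * u) + 2 * b₂ = 2 * b₂ * (1 - u * (2 * f + 1)) := by ring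
    have e3 : 1 - u * (2 * f + 1) = v * 2 ^ (m + 1) := by linarith
    rw [this, e3]
    ring
  have he2 : e % 2 = 0 := by
    rw [he] at h1
    rw [show (2 : ℤ) ^ (m + 1) * e * b = 2 ^ (m + 1) * (e * b) by ring, pow_succ (2 : ℤ) (m + 1),
      mul_dvd_mul_iff_left (by positivity)] at h1
    obtain ⟨c, hc⟩ := h1
    by_contra hne
    obtain ⟨e', rfl⟩ : ∃ e', e = 2 * e' + 1 := ⟨e / 2, by omega⟩
    obtain ⟨b', rfl⟩ : ∃ b', b = 2 * b' + 1 := ⟨b / 2, by omega⟩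
    have : (2 * e' + 1) * (2 * b' + 1) = 2 * (2 * e' * b' + e' + b') + 1 := by ring
    omega
  obtain ⟨e', rfl⟩ : ∃ e', e = 2 * e' := ⟨e / 2, by omega⟩
  rw [he]
  exact ⟨e', by ring⟩

/-- Semidihedral case, `r ≡ δ`. -/
theorem inner_of_delta (hδ : 1 ≤ m ∧ δ = 2 ^ (m + 1) - 1) (hr1 : (2 : ℤ) ^ (m + 2) ∣ r - δ) :
    ∃ g ∈ T, g ^ 2 = z a m ∧ ∀ h ∈ T, t * h * t⁻¹ = g * h * g⁻¹ := by
  obtain ⟨hm, hδe⟩ := hδ
  obtain ⟨m', rfl⟩ : ∃ m', m = m' + 1 := ⟨m - 1, by omega⟩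
  -- `b` even
  have hb2 : b % 2 = 0 := by
    have h1 : (a ^ b * y) ^ 2 = 1 := by
      rw [← hb, conj_pow, D.hy2]; group
    rw [D.pow_y_sq, D.zeq1, hδe,
      show b + (2 ^ (m' + 1 + 1) - 1) * b = 2 ^ (m' + 1 + 1) * b by ring,
      pow_succ (2 : ℤ) (m' + 1 + 1), mul_dvd_mul_iff_left (by positivity)] at h1
    omega
  obtain ⟨b₂, rfl⟩ : ∃ b₂, b = 2 * b₂ := ⟨b / 2, by omega⟩
  -- `b₂` odd
  have hb3 : b₂ % 2 = 1 := by
    by_contra hb4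
    obtain ⟨c', rfl⟩ : ∃ c', b₂ = 2 * c' := ⟨b₂ / 2, by omega⟩
    have hc : (a ^ (2 * c') * y) ^ 2 = 1 := by
      rw [D.pow_y_sq, D.zeq1, hδe]
      exact ⟨c', by ring⟩
    apply no_fix D H hr hb (2 * c') hc
    obtain ⟨w, hw⟩ := hr1
    refine ⟨2 * c' * w + c', ?_⟩
    have : r = δ + 2 ^ (m' + 1 + 2) * w := by linarith
    rw [this, hδe]
    ring
  -- the inner element
  set j : ℤ := b₂ + 2 ^ (m' + 1) with hj
  have hjodd : j % 2 = 1 := by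
    rw [hj, pow_succ]
    omega
  obtain ⟨j', hj'⟩ : ∃ j', j = 2 * j' + 1 := ⟨j / 2, by omega⟩
  refine ⟨a ^ j * y, mul_mem (zpow_mem D.ha _) D.hy, ?_, fun h hh => ?_⟩
  · rw [D.pow_y_sq]
    unfold z
    rw [D.zeq, hδe, hj']
    exact ⟨j', by ring⟩
  · apply agree D _ _ hh
    · rw [hr, mul_inv_rev, D.yinv]
      calc a ^ j * y * a * (y * (a ^ j)⁻¹) = a ^ j * (y * a * y⁻¹) * (a ^ j)⁻¹ := by
            rw [D.yinv]; group
        _ = a ^ j * a ^ δ * (a ^ j)⁻¹ := by rw [D.hya]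
        _ = a ^ δ := by rw [← zpow_neg, ← zpow_add, ← zpow_add]; congr 1; ring
        _ = a ^ r := by
          rw [D.zeq]
          obtain ⟨w, hw⟩ := hr1
          exact ⟨-w, by linarith⟩
    · rw [hb]
      have h1 : a ^ j * y * y * (a ^ j * y)⁻¹ = a ^ (j - δ * j) * y := by
        rw [mul_inv_rev, D.yinv]
        calc a ^ j * y * y * (y * (a ^ j)⁻¹) = a ^ j * (y * (a ^ j)⁻¹) := by
              rw [mul_assoc (a ^ j) y y, D.yy, mul_one]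
          _ = a ^ j * (a ^ (-(δ * j)) * y) := by
              rw [← zpow_neg, D.y_mul, mul_neg]
          _ = a ^ (j - δ * j) * y := by
              rw [← mul_assoc, ← zpow_add, sub_eq_add_neg]
      rw [h1, D.eq_y, hδe]
      refine ⟨-j', ?_⟩
      rw [hj] at hj' ⊢
      have e1 : b₂ = 2 * j' + 1 - 2 ^ (m' + 1) := by linarith
      rw [e1]
      ring

end coord

omit D in
/-- Exponent arithmetic in the semidihedral case. -/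
theorem r_cases {m : ℕ} (hm : 1 ≤ m) {r : ℤ} (hr : (2 : ℤ) ^ (m + 2) ∣ r * r - 1) (hodd : r % 2 = 1) :
    (2 : ℤ) ^ (m + 2) ∣ r - 1 ∨ (2 : ℤ) ^ (m + 2) ∣ r - (2 ^ (m + 1) - 1) ∨
      (2 : ℤ) ^ (m + 2) ∣ r - (2 ^ (m + 1) + 1) ∨ (2 : ℤ) ^ (m + 2) ∣ r + 1 := by
  have hr' : (2 : ℤ) ^ (m + 1 + 1) ∣ r ^ 2 - 1 := by
    rwa [show r ^ 2 - 1 = r * r - 1 by ring]
  have h4 : r % 4 = 1 ∨ r % 4 = 3 := by omega
  rcases h4 with h4 | h4
  · obtain ⟨e, he⟩ := dvd_sub_one hr' h4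
    rcases Int.emod_two_eq_zero_or_one e with he2 | he2
    · obtain ⟨e', rfl⟩ : ∃ e', e = 2 * e' := ⟨e / 2, by omega⟩
      left
      rw [he]
      exact ⟨e', by ring⟩
    · obtain ⟨e', rfl⟩ : ∃ e', e = 2 * e' + 1 := ⟨e / 2, by omega⟩
      right; right; left
      exact ⟨e', by rw [show r = 2 ^ (m + 1) * (2 * e' + 1) + 1 by linarith]; ring⟩
  · obtain ⟨e, he⟩ := dvd_add_one hr' h4
    rcases Int.emod_two_eq_zero_or_one e with he2 | he2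
    · obtain ⟨e', rfl⟩ : ∃ e', e = 2 * e' := ⟨e / 2, by omega⟩
      right; right; right
      rw [he]
      exact ⟨e', by ring⟩
    · obtain ⟨e', rfl⟩ : ∃ e', e = 2 * e' + 1 := ⟨e / 2, by omega⟩
      right; left
      exact ⟨e', by rw [show r = 2 ^ (m + 1) * (2 * e' + 1) - 1 by linarith]; ring⟩

/-- The main theorem of this file: some involution induces an inner automorphism. -/
theorem exists_inner {t₁ t₂ : G} (H₁ : D.Adm t₁) (H₂ : D.Adm t₂) (H₃ : D.Adm (t₁ * t₂)) :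
    ∃ t, (t = t₁ ∨ t = t₂ ∨ t = t₁ * t₂) ∧
      ∃ g ∈ T, g ^ 2 = z a m ∧ ∀ h ∈ T, t * h * t⁻¹ = g * h * g⁻¹ := by
  obtain ⟨r₁, b₁, hr₁, hb₁⟩ := D.exists_coord H₁
  obtain ⟨r₂, b₂, hr₂, hb₂⟩ := D.exists_coord H₂
  obtain ⟨r₃, b₃, hr₃, hb₃⟩ := D.exists_coord H₃
  have hr₃' : t₁ * t₂ * a * (t₁ * t₂)⁻¹ = a ^ (r₁ * r₂) := by
    calc t₁ * t₂ * a * (t₁ * t₂)⁻¹ = t₁ * (t₂ * a * t₂⁻¹) * t₁⁻¹ := by group
      _ = a ^ (r₁ * r₂) := by rw [hr₂, conj_zpow_of hr₁]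
  have hodd₁ : r₁ % 2 = 1 := odd_of_conj (by omega) D.hao hr₁
  have hodd₂ : r₂ % 2 = 1 := odd_of_conj (by omega) D.hao hr₂
  have hsq₁ := rsq D H₁ hr₁ hb₁
  have hsq₂ := rsq D H₂ hr₂ hb₂
  rcases D.hδ with hδ | hδ
  · -- dihedral
    have h4₁ : r₁ % 4 = 1 ∨ r₁ % 4 = 3 := by omega
    have h4₂ : r₂ % 4 = 1 ∨ r₂ % 4 = 3 := by omega
    rcases h4₁ with h4₁ | h4₁
    · exact ⟨t₁, Or.inl rfl, inner_of_one D H₁ hr₁ hb₁ (dihedral_one D H₁ hr₁ hb₁ hδ h4₁)⟩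
    rcases h4₂ with h4₂ | h4₂
    · exact ⟨t₂, Or.inr (Or.inl rfl), inner_of_one D H₂ hr₂ hb₂ (dihedral_one D H₂ hr₂ hb₂ hδ h4₂)⟩
    refine ⟨t₁ * t₂, Or.inr (Or.inr rfl), inner_of_one D H₃ hr₃' hb₃ ?_⟩
    obtain ⟨u, hu⟩ := dihedral_three D H₁ hr₁ hb₁ hδ h4₁
    obtain ⟨v, hv⟩ := dihedral_three D H₂ hr₂ hb₂ hδ h4₂
    refine ⟨2 ^ (m + 2) * u * v - u - v, ?_⟩
    have e1 : r₁ = 2 ^ (m + 2) * u - 1 := by linarith
    have e2 : r₂ = 2 ^ (m + 2) * v - 1 := by linarith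
    rw [e1, e2]
    ring
  · -- semidihedral
    obtain ⟨hm, hδe⟩ := hδ
    have good₁ : (2 : ℤ) ^ (m + 2) ∣ r₁ - 1 → _ := fun h =>
      (⟨t₁, Or.inl rfl, inner_of_one D H₁ hr₁ hb₁ h⟩ :
        ∃ t, (t = t₁ ∨ t = t₂ ∨ t = t₁ * t₂) ∧
      ∃ g ∈ T, g ^ 2 = z a m ∧ ∀ h ∈ T, t * h * t⁻¹ = g * h * g⁻¹)
    have good₂ : (2 : ℤ) ^ (m + 2) ∣ r₂ - 1 → _ := fun h =>
      (⟨t₂, Or.inr (Or.inl rfl), inner_of_one D H₂ hr₂ hb₂ h⟩ :
        ∃ t, (t = t₁ ∨ t = t₂ ∨ t = t₁ * t₂) ∧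
      ∃ g ∈ T, g ^ 2 = z a m ∧ ∀ h ∈ T, t * h * t⁻¹ = g * h * g⁻¹)
    have gooddelta₁ : (2 : ℤ) ^ (m + 2) ∣ r₁ - δ → _ := fun h =>
      (⟨t₁, Or.inl rfl, inner_of_delta D H₁ hr₁ hb₁ ⟨hm, hδe⟩ h⟩ :
        ∃ t, (t = t₁ ∨ t = t₂ ∨ t = t₁ * t₂) ∧
      ∃ g ∈ T, g ^ 2 = z a m ∧ ∀ h ∈ T, t * h * t⁻¹ = g * h * g⁻¹)
    have gooddelta₂ : (2 : ℤ) ^ (m + 2) ∣ r₂ - δ → _ := fun h =>
      (⟨t₂, Or.inr (Or.inl rfl), inner_of_delta D H₂ hr₂ hb₂ ⟨hm, hδe⟩ h⟩ :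
        ∃ t, (t = t₁ ∨ t = t₂ ∨ t = t₁ * t₂) ∧
      ∃ g ∈ T, g ^ 2 = z a m ∧ ∀ h ∈ T, t * h * t⁻¹ = g * h * g⁻¹)
    have good₃ : (2 : ℤ) ^ (m + 2) ∣ r₁ * r₂ - 1 → _ := fun h =>
      (⟨t₁ * t₂, Or.inr (Or.inr rfl), inner_of_one D H₃ hr₃' hb₃ h⟩ :
        ∃ t, (t = t₁ ∨ t = t₂ ∨ t = t₁ * t₂) ∧
      ∃ g ∈ T, g ^ 2 = z a m ∧ ∀ h ∈ T, t * h * t⁻¹ = g * h * g⁻¹)
    have gooddelta₃ : (2 : ℤ) ^ (m + 2) ∣ r₁ * r₂ - δ → _ := fun h =>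
      (⟨t₁ * t₂, Or.inr (Or.inr rfl), inner_of_delta D H₃ hr₃' hb₃ ⟨hm, hδe⟩ h⟩ :
        ∃ t, (t = t₁ ∨ t = t₂ ∨ t = t₁ * t₂) ∧
      ∃ g ∈ T, g ^ 2 = z a m ∧ ∀ h ∈ T, t * h * t⁻¹ = g * h * g⁻¹)
    rcases r_cases hm hsq₁ hodd₁ with h | h | h | h
    · exact good₁ h
    · exact gooddelta₁ (by rw [hδe]; exact h)
    · rcases r_cases hm hsq₂ hodd₂ with h' | h' | h' | h'
      · exact good₂ h'
      · exact gooddelta₂ (by rw [hδe]; exact h')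
      · apply good₃
        obtain ⟨u, hu⟩ := h
        obtain ⟨v, hv⟩ := h'
        have e1 : r₁ = 2 ^ (m + 2) * u + (2 ^ (m + 1) + 1) := by linarith
        have e2 : r₂ = 2 ^ (m + 2) * v + (2 ^ (m + 1) + 1) := by linarith
        rw [e1, e2]
        obtain ⟨m', rfl⟩ : ∃ m', m = m' + 1 := ⟨m - 1, by omega⟩
        refine ⟨2 ^ (m' + 1 + 2) * u * v + 2 ^ (m' + 1 + 1) * u + u + 2 ^ (m' + 1 + 1) * v + v + 2 ^ m' * 2 + 1, ?_⟩
        ring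
      · apply gooddelta₃
        rw [hδe]
        obtain ⟨u, hu⟩ := h
        obtain ⟨v, hv⟩ := h'
        have e1 : r₁ = 2 ^ (m + 2) * u + (2 ^ (m + 1) + 1) := by linarith
        have e2 : r₂ = 2 ^ (m + 2) * v - 1 := by linarith
        rw [e1, e2]
        refine ⟨2 ^ (m + 2) * u * v - u + 2 ^ (m + 1) * v + v - 1, ?_⟩
        ring
    · rcases r_cases hm hsq₂ hodd₂ with h' | h' | h' | h'
      · exact good₂ h'
      · exact gooddelta₂ (by rw [hδe]; exact h')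
      · apply gooddelta₃
        rw [hδe]
        obtain ⟨u, hu⟩ := h
        obtain ⟨v, hv⟩ := h'
        have e1 : r₁ = 2 ^ (m + 2) * u - 1 := by linarith
        have e2 : r₂ = 2 ^ (m + 2) * v + (2 ^ (m + 1) + 1) := by linarith
        rw [e1, e2]
        refine ⟨2 ^ (m + 2) * u * v + 2 ^ (m + 1) * u + u - v - 1, ?_⟩
        ring
      · apply good₃
        obtain ⟨u, hu⟩ := h
        obtain ⟨v, hv⟩ := h'
        have e1 : r₁ = 2 ^ (m + 2) * u - 1 := by linarith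
        have e2 : r₂ = 2 ^ (m + 2) * v - 1 := by linarith
        rw [e1, e2]
        refine ⟨2 ^ (m + 2) * u * v - u - v, ?_⟩
        ring

end DS

end Cfsg.Agent.Lib.KleinSD
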