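import Cfsg.Agent.Lib.KleinSD.Final
import Cfsg.Agent.Lib.KleinSD.Inner
import Cfsg.Prelude.Def_CaseTheorems

/-!
# A perfect group normalized by a four-group whose involutions have centralizers of 2-rank one
has 2-rank one
-/

set_option autoImplicit false
set_option linter.unusedSectionVars false
set_option linter.unusedVariables false

namespace Cfsg.Agent.Lib.KleinSD

open Subgroup Cfsg.Agent.Lib.PGroups.CyclicNormal Cfsg.Agent.Lib.PGroups.Basic

variable {G : Type*} [Group G] [Finite G]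

/-- Rank at most one from uniqueness of the involution in a Sylow subgroup. -/
theorem prank_of_unique {A T : Subgroup G} (hT : IsMax2 T A)
    (h : ∀ x ∈ T, ∀ x' ∈ T, x ^ 2 = 1 → x' ^ 2 = 1 → x ≠ 1 → x' ≠ 1 → x = x') :
    Cfsg.PRankLE 2 1 A := by
  intro B hBc hB2
  rcases B.bot_or_exists_ne_one with rfl | ⟨b₀, hb₀, hb₀1⟩
  · simp
  let B' : Subgroup G := B.map A.subtype
  have hcoe : ∀ b ∈ B, ((b : A) : G) ^ 2 = 1 := by
    intro b hb
    have := congrArg Subtype.val (hB2 b hb)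
    simpa using this
  have hB'p : IsPGroup 2 B' := by
    rintro ⟨_, b, hb, rfl⟩
    refine ⟨1, ?_⟩
    apply Subtype.ext
    simpa using hcoe b hb
  have hB'A : B' ≤ A := by
    rintro _ ⟨b, _, rfl⟩
    exact b.2
  obtain ⟨g, hgA, hg⟩ := hT.exists_conj hB'A hB'p
  have hconj2 : ∀ b ∈ B, (g * (b : A) * g⁻¹) ^ 2 = 1 := by
    intro b hb
    rw [conj_pow, hcoe b hb]; group
  have hconj1 : ∀ b : A, b ≠ 1 → g * (b : G) * g⁻¹ ≠ 1 := by
    intro b hb h0
    apply hb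
    apply Subtype.ext
    apply Ctx.conj_cancel (h := g)
    rw [h0]; simp
  have hmem : ∀ b ∈ B, g * (b : A) * g⁻¹ ∈ T := fun b hb => hg _ ⟨b, hb, rfl⟩
  have key : B ≤ zpowers b₀ := by
    intro b hb
    by_cases hb1 : b = 1
    · rw [hb1]; exact one_mem _
    · have := h _ (hmem b hb) _ (hmem b₀ hb₀) (hconj2 b hb) (hconj2 b₀ hb₀)
        (hconj1 b hb1) (hconj1 b₀ hb₀1)
      have h2 : b = b₀ := Subtype.ext (Ctx.conj_cancel this)
      rw [h2]
      exact mem_zpowers _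
  have h1 : Nat.card B ≤ Nat.card (zpowers b₀) := Subgroup.card_le_of_le key
  rw [Nat.card_zpowers] at h1
  have h2 : orderOf b₀ ∣ 2 := orderOf_dvd_of_pow_eq_one (hB2 b₀ hb₀)
  have := Nat.le_of_dvd (by norm_num) h2
  simp only [pow_one]
  omega

theorem orderOf_le_two_of_sq {X : Type*} [Group X] {b : X} (h : b ^ 2 = 1) : orderOf b ≤ 2 :=
  Nat.le_of_dvd (by norm_num) (orderOf_dvd_of_pow_eq_one h)

theorem quat_pow {a : G} {m : ℕ} (hao : orderOf a = 2 ^ (m + 2)) {j : ℤ} (h2 : (a ^ j) ^ 2 = 1)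
    (h1 : a ^ j ≠ 1) : a ^ j = a ^ (2 ^ (m + 1)) := by
  rw [← zpow_natCast, ← zpow_mul, zpow_eq_one_iff_dvd hao] at h2
  push_cast at h2
  rw [pow_succ (2 : ℤ) (m + 1), mul_comm _ (2 : ℤ), mul_comm j, mul_dvd_mul_iff_left (by norm_num)] at h2
  obtain ⟨d, rfl⟩ := h2
  rcases Int.emod_two_eq_zero_or_one d with hd | hd
  · exfalso
    apply h1
    obtain ⟨d', rfl⟩ : ∃ d', d = 2 * d' := ⟨d / 2, by omega⟩
    rw [zpow_eq_one_iff_dvd hao]
    exact ⟨d', by ring⟩
  · obtain ⟨d', rfl⟩ : ∃ d', d = 2 * d' + 1 := ⟨d / 2, by omega⟩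
    rw [← zpow_natCast, zpow_eq_zpow_iff_dvd hao]
    refine ⟨d', ?_⟩
    push_cast
    ring

theorem quat_coset {a y x : G} {m : ℕ} (hao : orderOf a = 2 ^ (m + 2))
    (hy2 : y ^ 2 = a ^ (2 ^ (m + 1))) (hya : y * a * y⁻¹ = a⁻¹) {j : ℤ} (hj : x * y = a ^ j) :
    x ^ 2 ≠ 1 := by
  intro h2
  have hzne : a ^ (2 ^ (m + 1)) ≠ 1 := by
    apply pow_ne_one_of_lt_orderOf (by positivity)
    rw [hao]
    exact Nat.pow_lt_pow_right (by norm_num) (by omega)
  have hx : x = a ^ j * y⁻¹ := by rw [← hj]; group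
  have h3 : y⁻¹ * a ^ j * y = a ^ (-j) := by
    have h4 : y * a ^ (-j) * y⁻¹ = a ^ j := by
      rw [← conj_zpow, hya, inv_zpow, zpow_neg, inv_inv]
    rw [← h4]; group
  have h5 : x ^ 2 = (y ^ 2)⁻¹ := by
    rw [hx]
    calc (a ^ j * y⁻¹) ^ 2 = a ^ j * (y⁻¹ * a ^ j * y) * (y ^ 2)⁻¹ := by
          simp only [sq]; group
      _ = (y ^ 2)⁻¹ := by rw [h3, ← zpow_add]; simp
  rw [h5, hy2, inv_eq_one] at h2
  exact hzne h2

/-- The main theorem: rank at most one. -/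
theorem rank_le_one (A : Subgroup G) (hperf : ∀ (f : A →* ℤˣ) (g : A), f g = 1)
    (U : Subgroup G) (hU : IsKleinFour U) (hUA : U ≤ normalizer (A : Set G))
    (hno : ∀ t ∈ U, t ≠ 1 → ∀ x x' : G, x ∈ A → x' ∈ A → x ^ 2 = 1 → x' ^ 2 = 1 → x ≠ 1 → x' ≠ 1 →
      x ≠ x' → x * x' = x' * x → t * x = x * t → t * x' = x' * t → False) :
    Cfsg.PRankLE 2 1 A := by
  classical
  haveI hF2 : Fact (Nat.Prime 2) := ⟨Nat.prime_two⟩
  -- elements of `U`
  have hUexp : ∀ u ∈ U, u ^ 2 = 1 := by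
    intro u hu
    have h1 := Monoid.pow_exponent_eq_one (⟨u, hu⟩ : U)
    rw [hU.exponent_two] at h1
    exact congrArg Subtype.val h1
  have hUcard : Nat.card U = 4 := hU.card_four
  have hUp : IsPGroup 2 U := by
    rintro ⟨u, hu⟩
    refine ⟨1, ?_⟩
    apply Subtype.ext
    simpa using hUexp u hu
  obtain ⟨t₁, ht₁U, ht₁1⟩ : ∃ t ∈ U, t ≠ 1 := by
    rcases U.bot_or_exists_ne_one with rfl | h
    · simp at hUcard
    · exact h
  obtain ⟨t₂, ht₂U, ht₂1, ht₁₂⟩ : ∃ t ∈ U, t ≠ 1 ∧ t ≠ t₁ := by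
    by_contra hcon
    push Not at hcon
    have hle : U ≤ zpowers t₁ := by
      intro u hu
      by_cases hu1 : u = 1
      · rw [hu1]; exact one_mem _
      · rw [hcon u hu hu1]
        exact mem_zpowers _
    have h1 : Nat.card U ≤ Nat.card (zpowers t₁) := Subgroup.card_le_of_le hle
    rw [Nat.card_zpowers, hUcard] at h1
    have := orderOf_le_two_of_sq (hUexp t₁ ht₁U)
    omega
  have ht₃U : t₁ * t₂ ∈ U := mul_mem ht₁U ht₂U
  have ht₃1 : t₁ * t₂ ≠ 1 := by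
    intro h0
    apply ht₁₂
    have h1 : t₁ * t₁ = 1 := by rw [← sq]; exact hUexp t₁ ht₁U
    have : t₁ * t₂ = t₁ * t₁ := by rw [h0, h1]
    exact mul_left_cancel this
  -- the Sylow subgroup of the normalizer
  let X : Subgroup G := normalizer (A : Set G)
  have hUX' : IsPGroup 2 (U.subgroupOf X) := by
    rintro ⟨⟨u, huX⟩, hu⟩
    refine ⟨1, ?_⟩
    apply Subtype.ext
    apply Subtype.ext
    simpa using hUexp u hu
  obtain ⟨S, hUS⟩ := hUX'.exists_le_sylow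
  let S₀ : Subgroup G := (S : Subgroup X).map X.subtype
  have hS₀X : S₀ ≤ X := by
    rintro _ ⟨s, _, rfl⟩
    exact s.2
  have hUS₀ : U ≤ S₀ := by
    intro u hu
    exact ⟨⟨u, hUA hu⟩, hUS (by simpa [mem_subgroupOf] using hu), rfl⟩
  have hS₀p : IsPGroup 2 S₀ := S.isPGroup'.map _
  have hS₀max : IsMax2 S₀ X := by
    refine ⟨hS₀X, hS₀p, fun Q hQ hQp hSQ => ?_⟩
    have hQ' : IsPGroup 2 (Q.subgroupOf X) := by
      rintro ⟨⟨q, hqX⟩, hq⟩
      obtain ⟨k, hk⟩ := hQp ⟨q, hq⟩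
      refine ⟨k, ?_⟩
      apply Subtype.ext
      apply Subtype.ext
      have := congrArg Subtype.val hk
      simpa using this
    have hle : (S : Subgroup X) ≤ Q.subgroupOf X := by
      intro s hs
      rw [mem_subgroupOf]
      exact hSQ ⟨s, hs, rfl⟩
    have heq := S.is_maximal' hQ' hle
    intro q hq
    have : (⟨q, hQ hq⟩ : X) ∈ Q.subgroupOf X := by
      rw [mem_subgroupOf]; exact hq
    rw [heq] at this
    exact ⟨_, this, rfl⟩
  have hAX : A ≤ X := le_normalizer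
  have hmaxT : IsMax2 (S₀ ⊓ A) A := hS₀max.inf_normal hAX
    (fun k hk c hc => (mem_normalizer_iff.mp (show k ∈ normalizer (A : Set G) from hk) c).mp hc)
  -- the group `P`
  let TP : Subgroup S₀ := A.subgroupOf S₀
  haveI hTPn : TP.Normal := by
    constructor
    intro x hx g
    rw [mem_subgroupOf] at hx ⊢
    exact (mem_normalizer_iff.mp (show (g : G) ∈ normalizer (A : Set G) from hS₀X g.2) x).mp hx
  have hE : ∀ E : Subgroup S₀, E ≤ TP → E.Normal → Nat.card E = 4 → (∀ e ∈ E, e ^ 2 = 1) → False := by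
    intro E hET hEn hEc hE2
    have hEne : E ≠ ⊥ := by
      rintro rfl
      simp at hEc
    obtain ⟨e₀, he₀E, he₀Z, he₀o⟩ := exists_central_orderOf_eq hS₀p E hEne
    have he₀1 : e₀ ≠ 1 := by
      rintro rfl
      simp at he₀o
    obtain ⟨v, hvE, hv1, hve⟩ : ∃ v ∈ E, v ≠ 1 ∧ v ≠ e₀ := by
      by_contra hcon
      push Not at hcon
      have hle : E ≤ zpowers e₀ := by
        intro u hu
        by_cases hu1 : u = 1
        · rw [hu1]; exact one_mem _
        · rw [hcon u hu hu1]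
          exact mem_zpowers _
      have h1 : Nat.card E ≤ Nat.card (zpowers e₀) := Subgroup.card_le_of_le hle
      rw [Nat.card_zpowers, hEc, he₀o] at h1
      omega
    have hcomm : ∀ g : S₀, g * e₀ = e₀ * g := fun g => (mem_center_iff.mp he₀Z g)
    have hve₀ : e₀ * v = v * e₀ := (hcomm v).symm
    let F : Subgroup S₀ := four e₀ v (hE2 e₀ he₀E) (hE2 v hvE) hve₀
    have hFE : F ≤ E := by
      rintro x (rfl | rfl | rfl | rfl)
      · exact one_mem _
      · exact he₀E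
      · exact hvE
      · exact mul_mem he₀E hvE
    have hFc : Nat.card F = 4 := card_four he₀1 hv1 (fun h => hve h.symm)
    have hFeq : F = E := Subgroup.eq_of_le_of_card_ge hFE (by rw [hFc, hEc])
    -- the action on `v`
    have hact : ∀ t ∈ U, ∀ hS : t ∈ S₀, (⟨t, hS⟩ : S₀) * v * (⟨t, hS⟩ : S₀)⁻¹ = v ∨
        (⟨t, hS⟩ : S₀) * v * (⟨t, hS⟩ : S₀)⁻¹ = e₀ * v := by
      intro t ht hS
      set t' : S₀ := ⟨t, hS⟩
      have h1 : t' * v * t'⁻¹ ∈ E := hEn.conj_mem v hvE t'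
      rw [← hFeq] at h1
      rcases h1 with h1 | h1 | h1 | h1
      · exfalso
        apply hv1
        apply Ctx.conj_cancel (h := t')
        rw [h1]; group
      · exfalso
        apply hve
        apply Ctx.conj_cancel (h := t')
        rw [h1, hcomm t']; group
      · exact Or.inl h1
      · exact Or.inr h1
    have hfinal : ∀ t ∈ U, t ≠ 1 → ∀ hS : t ∈ S₀, (⟨t, hS⟩ : S₀) * v * (⟨t, hS⟩ : S₀)⁻¹ = v → False := by
      intro t ht ht1 hS h0
      have hv' := hET hvE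
      have he' := hET he₀E
      rw [mem_subgroupOf] at hv' he'
      refine hno t ht ht1 (e₀ : G) (v : G) he' hv' ?_ ?_ ?_ ?_ ?_ ?_ ?_ ?_
      · exact_mod_cast congrArg Subtype.val (hE2 e₀ he₀E)
      · exact_mod_cast congrArg Subtype.val (hE2 v hvE)
      · exact fun h => he₀1 (Subtype.ext h)
      · exact fun h => hv1 (Subtype.ext h)
      · exact fun h => hve (Subtype.ext h).symm
      · exact_mod_cast congrArg Subtype.val hve₀
      · exact congrArg Subtype.val (hcomm ⟨t, hS⟩)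
      · rw [mul_inv_eq_iff_eq_mul] at h0
        exact congrArg Subtype.val h0
    have hS₁ := hUS₀ ht₁U
    have hS₂ := hUS₀ ht₂U
    have hS₃ := hUS₀ ht₃U
    rcases hact t₁ ht₁U hS₁ with h1 | h1
    · exact hfinal t₁ ht₁U ht₁1 hS₁ h1
    rcases hact t₂ ht₂U hS₂ with h2 | h2
    · exact hfinal t₂ ht₂U ht₂1 hS₂ h2
    apply hfinal (t₁ * t₂) ht₃U ht₃1 hS₃
    have h3 : (⟨t₁ * t₂, hS₃⟩ : S₀) = ⟨t₁, hS₁⟩ * ⟨t₂, hS₂⟩ := rfl
    rw [h3]
    calc (⟨t₁, hS₁⟩ * ⟨t₂, hS₂⟩ : S₀) * v * (⟨t₁, hS₁⟩ * ⟨t₂, hS₂⟩ : S₀)⁻¹ =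
        (⟨t₁, hS₁⟩ : S₀) * ((⟨t₂, hS₂⟩ : S₀) * v * (⟨t₂, hS₂⟩ : S₀)⁻¹) * (⟨t₁, hS₁⟩ : S₀)⁻¹ := by group
      _ = (⟨t₁, hS₁⟩ : S₀) * (e₀ * v) * (⟨t₁, hS₁⟩ : S₀)⁻¹ := by rw [h2]
      _ = ((⟨t₁, hS₁⟩ : S₀) * e₀) * v * (⟨t₁, hS₁⟩ : S₀)⁻¹ := by group
      _ = (e₀ * (⟨t₁, hS₁⟩ : S₀)) * v * (⟨t₁, hS₁⟩ : S₀)⁻¹ := by rw [hcomm]
      _ = e₀ * ((⟨t₁, hS₁⟩ : S₀) * v * (⟨t₁, hS₁⟩ : S₀)⁻¹) := by group
      _ = e₀ * (e₀ * v) := by rw [h1]
      _ = v := by
          rw [← mul_assoc, ← sq, hE2 e₀ he₀E, one_mul]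
  rcases Cfsg.Agent.Lib.KleinSD.classify_rel hS₀p TP hE with hcyc | ⟨n, a, y, hn2, hao, haT, hyT, hzn, hyM, hdich, hrel⟩
  · -- cyclic
    apply prank_of_unique hmaxT
    intro x hx x' hx' h2 h2' h1 h1'
    let X' : TP := ⟨⟨x, hx.1⟩, by rw [mem_subgroupOf]; exact hx.2⟩
    let Y' : TP := ⟨⟨x', hx'.1⟩, by rw [mem_subgroupOf]; exact hx'.2⟩
    have hX2 : X' ^ 2 = 1 := Subtype.ext (Subtype.ext h2)
    have hY2 : Y' ^ 2 = 1 := Subtype.ext (Subtype.ext h2')
    have hX1 : X' ≠ 1 := fun h => h1 (congrArg (fun u : TP => ((u : S₀) : G)) h)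
    have hY1 : Y' ≠ 1 := fun h => h1' (congrArg (fun u : TP => ((u : S₀) : G)) h)
    have hXo : orderOf X' = 2 := orderOf_eq_prime hX2 hX1
    have hmem := Cfsg.Agent.Lib.PGroups.NormalRankTwo.mem_zpowers_of_pow_eq_one hXo hY2
    obtain ⟨k, hk⟩ := mem_zpowers_iff.mp hmem
    rcases Int.emod_two_eq_zero_or_one k with hk2 | hk2
    · exfalso
      apply hY1
      obtain ⟨k', rfl⟩ : ∃ k', k = 2 * k' := ⟨k / 2, by omega⟩
      rw [← hk, zpow_mul, zpow_ofNat, hX2, one_zpow]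
    · obtain ⟨k', rfl⟩ : ∃ k', k = 2 * k' + 1 := ⟨k / 2, by omega⟩
      have : Y' = X' := by
        rw [← hk, zpow_add, zpow_mul, zpow_ofNat, hX2, one_zpow, one_mul, zpow_one]
      exact (congrArg (fun u : TP => ((u : S₀) : G)) this).symm
  · obtain ⟨m, rfl⟩ : ∃ m, n = m + 2 := ⟨n - 2, by omega⟩
    simp only [show m + 2 - 1 = m + 1 by omega] at hrel
    have hTeq : ∀ h : G, h ∈ S₀ ⊓ A ↔ ∃ hS : h ∈ S₀, (⟨h, hS⟩ : S₀) ∈ TP := by
      intro h
      constructor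
      · intro hh
        exact ⟨hh.1, by rw [mem_subgroupOf]; exact hh.2⟩
      · rintro ⟨hS, hh⟩
        rw [mem_subgroupOf] at hh
        exact Subgroup.mem_inf.mpr ⟨hS, hh⟩
    have hao₀ : orderOf (a : G) = 2 ^ (m + 2) := by
      rw [Subgroup.orderOf_coe]; exact hao
    have haT₀ : (a : G) ∈ S₀ ⊓ A := (hTeq _).mpr ⟨a.2, haT⟩
    have hyT₀ : (y : G) ∈ S₀ ⊓ A := (hTeq _).mpr ⟨y.2, hyT⟩
    have hcoe_pow : ∀ j : ℤ, ((a ^ j : S₀) : G) = (a : G) ^ j := fun j => by simp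
    have hyM₀ : (y : G) ∉ zpowers (a : G) := by
      rintro ⟨j, hj⟩
      apply hyM
      refine ⟨j, Subtype.ext ?_⟩
      show ((a ^ j : S₀) : G) = _
      rw [hcoe_pow]
      exact hj
    -- dichotomy on elements
    have hdich₀ : ∀ t ∈ S₀ ⊓ A, (∃ j : ℤ, t = (a : G) ^ j) ∨ ∃ j : ℤ, t * (y : G) = (a : G) ^ j := by
      intro t ht
      obtain ⟨hS, hT⟩ := (hTeq t).mp ht
      rcases hdich _ hT with h | h
      · obtain ⟨j, hj⟩ := mem_zpowers_iff.mp h
        left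
        refine ⟨j, ?_⟩
        have := congrArg Subtype.val hj
        simpa using this.symm
      · obtain ⟨j, hj⟩ := mem_zpowers_iff.mp h
        right
        refine ⟨j, ?_⟩
        have := congrArg Subtype.val hj
        simpa using this.symm
    -- the conjugation action of `U` on `a`
    have hta₀ : ∀ t ∈ U, t * (a : G) * t⁻¹ ∈ zpowers (a : G) := by
      intro t ht
      have h1 := hzn.conj_mem a (mem_zpowers a) ⟨t, hUS₀ ht⟩
      obtain ⟨j, hj⟩ := mem_zpowers_iff.mp h1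
      refine mem_zpowers_iff.mpr ⟨j, ?_⟩
      have := congrArg Subtype.val hj
      simpa using this
    have htT₀ : ∀ t ∈ U, ∀ h ∈ S₀ ⊓ A, t * h * t⁻¹ ∈ S₀ ⊓ A := by
      intro t ht h hh
      refine Subgroup.mem_inf.mpr ⟨mul_mem (mul_mem (hUS₀ ht) hh.1) (inv_mem (hUS₀ ht)), ?_⟩
      exact (mem_normalizer_iff.mp (hUA ht) h).mp hh.2
    -- the three cases
    have hfinal : ∀ δ : ℤ, DS (S₀ ⊓ A) (a : G) (y : G) m δ → False := by
      intro δ D
      have hconjz : ∀ t ∈ U, t * DS.z (a : G) m * t⁻¹ = DS.z (a : G) m := by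
        intro t ht
        obtain ⟨r, hr⟩ := mem_zpowers_iff.mp (hta₀ t ht)
        have hodd := odd_of_conj (by omega) hao₀ hr.symm
        unfold DS.z
        rw [conj_zpow_of hr.symm, D.zeq]
        obtain ⟨q, rfl⟩ : ∃ q, r = 2 * q + 1 := ⟨r / 2, by omega⟩
        exact ⟨q, by ring⟩
      have hAdm : ∀ t ∈ U, t ≠ 1 → D.Adm t := by
        intro t ht ht1
        refine ⟨hUexp t ht, htT₀ t ht, hta₀ t ht, ?_⟩
        intro v hv hv2 hv1 hvz hfix
        have hzc := hconjz t ht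
        rw [mul_inv_eq_iff_eq_mul] at hzc hfix
        exact hno t ht ht1 (DS.z (a : G) m) v (D.z_mem).2 hv.2 D.z_sq hv2 D.z_ne_one hv1
          (fun h => hvz h.symm) (D.z_comm hv).symm hzc hfix
      obtain ⟨t, ht, g, hgT, hg2, hgt⟩ := D.exists_inner (hAdm t₁ ht₁U ht₁1) (hAdm t₂ ht₂U ht₂1)
        (hAdm _ ht₃U ht₃1)
      have htU : t ∈ U := by
        rcases ht with rfl | rfl | rfl
        · exact ht₁U
        · exact ht₂U
        · exact ht₃U
      have ht2 : t ^ 2 = 1 := hUexp t htU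
      have hgt' : t * g⁻¹ = g⁻¹ * t := by
        have := hgt g⁻¹ (inv_mem hgT)
        rw [mul_inv_eq_iff_eq_mul] at this
        rw [this]
        group
      let w : G := g⁻¹ * t
      have hwN : w ∈ normalizer (A : Set G) :=
        mul_mem (inv_mem (hAX hgT.2)) (hUA htU)
      have hwT : ∀ h ∈ S₀ ⊓ A, w * h = h * w := by
        intro h hh
        have h1 := hgt h hh
        rw [mul_inv_eq_iff_eq_mul] at h1
        show g⁻¹ * t * h = h * (g⁻¹ * t)
        rw [mul_assoc, h1]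
        group
      have hw2 : w ^ 2 = DS.z (a : G) m := by
        have hzinv : (DS.z (a : G) m)⁻¹ = DS.z (a : G) m := by
          rw [inv_eq_iff_mul_eq_one, ← sq, D.z_sq]
        calc w ^ 2 = g⁻¹ * (t * g⁻¹) * t := by simp only [w, sq]; group
          _ = g⁻¹ * (g⁻¹ * t) * t := by rw [hgt']
          _ = (g ^ 2)⁻¹ * t ^ 2 := by simp only [sq]; group
          _ = DS.z (a : G) m := by rw [ht2, hg2, mul_one, hzinv]
      let C : Ctx A (S₀ ⊓ A) (DS.z (a : G) m) (DS.r (a : G) m) w :=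
        { hT := hmaxT
          hzT := D.z_mem
          hz2 := D.z_sq
          hz1 := D.z_ne_one
          hzc := fun h hh => D.z_comm hh
          hC := by
            intro v hv hv2 hv1 hvz h hh hc
            obtain ⟨j, hj⟩ := D.inv_form hv hv2 hv1 hvz
            exact D.centralizer_form j hj hh hc
          hrT := D.r_mem
          hr := D.r_sq
          hrv := fun v hv hv2 hv1 hvz => D.r_conj' hv hv2 hv1 hvz
          hwN := hwN
          hwT := hwT
          hw2 := hw2 }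
      rcases D.hδ with h | h
      · exact D.d_false h C hperf
      · exact D.sd_false h C hperf
    have hya₀ : ∀ r : ℤ, y * a * y⁻¹ = a ^ r → (y : G) * (a : G) * (y : G)⁻¹ = (a : G) ^ r := by
      intro r hr
      have := congrArg Subtype.val hr
      simpa using this
    have hmem₀ : (y : G) ^ 2 = 1 → ∀ t ∈ S₀ ⊓ A, (∃ j : ℤ, t = (a : G) ^ j) ∨ ∃ j : ℤ, t = (a : G) ^ j * (y : G) := by
      intro hy2 t ht
      rcases hdich₀ t ht with h | ⟨j, hj⟩
      · exact Or.inl h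
      · right
        refine ⟨j, ?_⟩
        rw [← hj, mul_assoc, ← sq, hy2, mul_one]
    rcases hrel with ⟨hy2, hya⟩ | ⟨hy2, hya⟩ | ⟨hn3, hy2, hya⟩
    · -- quaternion
      have hy2₀ : (y : G) ^ 2 = (a : G) ^ (2 ^ (m + 1)) := by
        have := congrArg Subtype.val hy2
        simpa using this
      have hya₁ : (y : G) * (a : G) * (y : G)⁻¹ = (a : G)⁻¹ := by
        have := congrArg Subtype.val hya
        simpa using this
      have hzne : (a : G) ^ (2 ^ (m + 1)) ≠ 1 := by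
        apply pow_ne_one_of_lt_orderOf (by positivity)
        rw [hao₀]
        exact Nat.pow_lt_pow_right (by norm_num) (by omega)
      have hzsq : ((a : G) ^ (2 ^ (m + 1))) ^ 2 = 1 := by
        rw [← pow_mul, ← pow_succ, ← hao₀, pow_orderOf_eq_one]
      have huniq : ∀ x ∈ S₀ ⊓ A, x ^ 2 = 1 → x ≠ 1 → x = (a : G) ^ (2 ^ (m + 1)) := by
        intro x hx h2 h1
        rcases hdich₀ x hx with ⟨j, rfl⟩ | ⟨j, hj⟩
        · exact quat_pow hao₀ h2 h1
        · exact absurd h2 (quat_coset hao₀ hy2₀ hya₁ hj)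
      apply prank_of_unique hmaxT
      intro x hx x' hx' h2 h2' h1 h1'
      rw [huniq x hx h2 h1, huniq x' hx' h2' h1']
    · exact (hfinal (-1) ⟨hao₀, haT₀, hyT₀, hyM₀, hmem₀ (by
        have := congrArg Subtype.val hy2
        simpa using this), (by
        have := congrArg Subtype.val hy2
        simpa using this), hya₀ (-1) (by simpa using hya), Or.inl rfl⟩).elim
    · have hm1 : 1 ≤ m := by omega
      have hy2₀ : (y : G) ^ 2 = 1 := by
        have := congrArg Subtype.val hy2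
        simpa using this
      refine (hfinal (2 ^ (m + 1) - 1) ⟨hao₀, haT₀, hyT₀, hyM₀, hmem₀ hy2₀, hy2₀, hya₀ _ ?_, Or.inr ⟨hm1, rfl⟩⟩).elim
      rw [hya, ← zpow_natCast]
      congr 1
      have : 1 ≤ 2 ^ (m + 1) := Nat.one_le_two_pow
      push_cast [Nat.cast_sub this]
      ring

end Cfsg.Agent.Lib.KleinSD
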