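import Mathlib

/-!
# Explicit four-subgroups and maximal 2-subgroups inside a subgroup
-/

set_option autoImplicit false
set_option linter.unusedSectionVars false
set_option linter.unusedVariables false

namespace Cfsg.Agent.Lib.KleinSD

open Subgroup

variable {G : Type*} [Group G]

/-- The subgroup `{1, x, x', x x'}` for commuting elements of square one. -/
def four (x x' : G) (hx : x ^ 2 = 1) (hx' : x' ^ 2 = 1) (hc : x * x' = x' * x) : Subgroup G where
  carrier := {g | g = 1 ∨ g = x ∨ g = x' ∨ g = x * x'}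
  one_mem' := Or.inl rfl
  inv_mem' := by
    have h1 : x⁻¹ = x := by
      rw [inv_eq_iff_mul_eq_one, ← sq, hx]
    have h2 : x'⁻¹ = x' := by
      rw [inv_eq_iff_mul_eq_one, ← sq, hx']
    rintro g (rfl | rfl | rfl | rfl)
    · simp
    · right; left; exact h1
    · right; right; left; exact h2
    · right; right; right
      rw [mul_inv_rev, h1, h2, hc]
  mul_mem' := by
    have hxx : x * x = 1 := by rw [← sq, hx]
    have hxx' : x' * x' = 1 := by rw [← sq, hx']
    have e1 : x * (x * x') = x' := by rw [← mul_assoc, hxx, one_mul]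
    have e2 : x' * (x * x') = x := by rw [hc, ← mul_assoc, hxx', one_mul]
    have e3 : (x * x') * x = x' := by rw [hc, mul_assoc, hxx, mul_one]
    have e4 : (x * x') * x' = x := by rw [mul_assoc, hxx', mul_one]
    have e5 : (x * x') * (x * x') = 1 := by
      rw [mul_assoc, e2, hxx]
    have e6 : x' * x = x * x' := hc.symm
    rintro a b (rfl | rfl | rfl | rfl) (rfl | rfl | rfl | rfl) <;>
      simp only [Set.mem_ofPred_eq, one_mul, mul_one, hxx, hxx', e1, e2, e3, e4, e5, e6, true_or,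
        or_true]

theorem mem_four {x x' : G} {hx : x ^ 2 = 1} {hx' : x' ^ 2 = 1} {hc : x * x' = x' * x} {g : G} :
    g ∈ four x x' hx hx' hc ↔ g = 1 ∨ g = x ∨ g = x' ∨ g = x * x' := Iff.rfl

theorem four_sq {x x' : G} {hx : x ^ 2 = 1} {hx' : x' ^ 2 = 1} {hc : x * x' = x' * x} {g : G}
    (hg : g ∈ four x x' hx hx' hc) : g ^ 2 = 1 := by
  rcases hg with rfl | rfl | rfl | rfl
  · simp
  · exact hx
  · exact hx'
  · rw [(show Commute x x' from hc).mul_pow, hx, hx', one_mul]

theorem card_four {x x' : G} {hx : x ^ 2 = 1} {hx' : x' ^ 2 = 1} {hc : x * x' = x' * x}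
    (h1 : x ≠ 1) (h2 : x' ≠ 1) (h3 : x ≠ x') : Nat.card (four x x' hx hx' hc) = 4 := by
  classical
  have : ((four x x' hx hx' hc : Subgroup G) : Set G) = (({1, x, x', x * x'} : Finset G) : Set G) := by
    ext g
    simp [mem_four]
  have h4 : Nat.card (four x x' hx hx' hc) = Nat.card ((four x x' hx hx' hc : Subgroup G) : Set G) := rfl
  rw [h4, this, Nat.card_coe_set_eq, Set.ncard_coe_finset]
  have e1 : x * x' ≠ 1 := by
    intro h
    apply h3
    have : x * x' = x' * x' := by rw [h, ← sq, hx']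
    exact mul_right_cancel this
  have e2 : x * x' ≠ x := by
    intro h
    exact h2 (by simpa using h)
  have e3 : x * x' ≠ x' := by
    intro h
    exact h1 (by simpa using h)
  rw [Finset.card_insert_of_notMem, Finset.card_insert_of_notMem, Finset.card_insert_of_notMem,
    Finset.card_singleton]
  · simpa using e3.symm
  · simp only [Finset.mem_insert, Finset.mem_singleton, not_or]
    exact ⟨h3, e2.symm⟩
  · simp only [Finset.mem_insert, Finset.mem_singleton, not_or]
    exact ⟨h1.symm, h2.symm, e1.symm⟩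

theorem isPGroup_four {x x' : G} {hx : x ^ 2 = 1} {hx' : x' ^ 2 = 1} {hc : x * x' = x' * x} :
    IsPGroup 2 (four x x' hx hx' hc) := by
  rintro ⟨g, hg⟩
  refine ⟨1, ?_⟩
  apply Subtype.ext
  simpa using four_sq hg

/-- `T` is a maximal 2-subgroup of `K` (a Sylow 2-subgroup of `K`, in ambient form). -/
structure IsMax2 (T K : Subgroup G) : Prop where
  le : T ≤ K
  isP : IsPGroup 2 T
  max : ∀ Q : Subgroup G, Q ≤ K → IsPGroup 2 Q → T ≤ Q → Q ≤ T

variable [Finite G]

theorem IsMax2.of_le {T K B : Subgroup G} (h : IsMax2 T K) (hT : T ≤ B) (hB : B ≤ K) : IsMax2 T B :=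
  ⟨hT, h.isP, fun Q hQ hP hTQ => h.max Q (hQ.trans hB) hP hTQ⟩

/-- Sylow's conjugation theorem in ambient form. -/
theorem IsMax2.exists_conj {T K : Subgroup G} (h : IsMax2 T K) {Q : Subgroup G} (hQ : Q ≤ K)
    (hP : IsPGroup 2 Q) : ∃ g ∈ K, ∀ q ∈ Q, g * q * g⁻¹ ∈ T := by
  classical
  haveI : Fact (Nat.Prime 2) := ⟨Nat.prime_two⟩
  -- the Sylow subgroup of `K`
  have hTp : IsPGroup 2 (T.subgroupOf K) := by
    rintro ⟨⟨t, htK⟩, ht⟩
    obtain ⟨k, hk⟩ := h.isP ⟨t, ht⟩
    refine ⟨k, ?_⟩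
    apply Subtype.ext
    apply Subtype.ext
    have := congrArg Subtype.val hk
    simpa using this
  let S : Sylow 2 K :=
    { toSubgroup := T.subgroupOf K
      isPGroup' := hTp
      is_maximal' := by
        intro R hR hTR
        apply le_antisymm _ hTR
        have hRm : IsPGroup 2 (R.map K.subtype) := hR.map _
        have hle : R.map K.subtype ≤ K := by
          rintro _ ⟨r, _, rfl⟩
          exact r.2
        have hTm : T ≤ R.map K.subtype := by
          intro t ht
          exact ⟨⟨t, h.le ht⟩, hTR (by simpa [mem_subgroupOf] using ht), rfl⟩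
        have := h.max _ hle hRm hTm
        intro r hr
        rw [mem_subgroupOf]
        exact this ⟨r, hr, rfl⟩ }
  have hQp : IsPGroup 2 (Q.subgroupOf K) := by
    rintro ⟨⟨t, htK⟩, ht⟩
    obtain ⟨k, hk⟩ := hP ⟨t, ht⟩
    refine ⟨k, ?_⟩
    apply Subtype.ext
    apply Subtype.ext
    have := congrArg Subtype.val hk
    simpa using this
  obtain ⟨R, hR⟩ := hQp.exists_le_sylow
  obtain ⟨g, hg⟩ := MulAction.exists_smul_eq K R S
  refine ⟨g, g.2, fun q hq => ?_⟩
  have h1 : (⟨q, hQ hq⟩ : K) ∈ R := hR (by simpa [mem_subgroupOf] using hq)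
  have h3 : g * (⟨q, hQ hq⟩ : K) * g⁻¹ ∈ ((g • R : Sylow 2 K) : Subgroup K) :=
    ⟨⟨q, hQ hq⟩, h1, rfl⟩
  rw [hg] at h3
  exact h3

/-- `S ⊓ C` is a maximal 2-subgroup of `C` when `C` is normalized by `K ⊇ S`. -/
theorem IsMax2.inf_normal {S K C : Subgroup G} (h : IsMax2 S K) (hC : C ≤ K)
    (hn : ∀ k ∈ K, ∀ c ∈ C, k * c * k⁻¹ ∈ C) : IsMax2 (S ⊓ C) C := by
  refine ⟨inf_le_right, h.isP.to_le inf_le_left, fun Q hQ hP hTQ => ?_⟩
  obtain ⟨g, hgK, hg⟩ := h.exists_conj (hQ.trans hC) hP
  -- conjugating `Q` into `S ⊓ C`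
  let f : Q →  (S ⊓ C : Subgroup G) := fun q => ⟨g * q * g⁻¹, hg q q.2, hn g hgK q (hQ q.2)⟩
  have hf : Function.Injective f := by
    intro q q' hqq
    have := congrArg Subtype.val hqq
    simp only [f] at this
    exact Subtype.ext (by simpa using this)
  have hcard : Nat.card Q ≤ Nat.card (S ⊓ C : Subgroup G) := Nat.card_le_card_of_injective f hf
  have : (S ⊓ C : Subgroup G) = Q := Subgroup.eq_of_le_of_card_ge hTQ hcard
  rw [this]

end Cfsg.Agent.Lib.KleinSD
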