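import Cfsg.Agent.Lib.KleinSD.Four

/-!
# Weak closure of the central involution

`T` is a Sylow 2-subgroup of `A` in which a central involution `z` has the structure of the centre of
a dihedral or semidihedral group, and `w` normalizes `A`, centralizes `T`, with `w^2 = z`.
Then `z` is weakly closed in `T` with respect to `A`.
-/

set_option autoImplicit false
set_option linter.unusedSectionVars false
set_option linter.unusedVariables false

namespace Cfsg.Agent.Lib.KleinSD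

open Subgroup

variable {G : Type*} [Group G]

theorem four_comm {x x' : G} {hx : x ^ 2 = 1} {hx' : x' ^ 2 = 1} {hc : x * x' = x' * x} {g h : G}
    (hg : g ∈ four x x' hx hx' hc) (hh : h ∈ four x x' hx hx' hc) : g * h = h * g := by
  have hxx : x * x = 1 := by rw [← sq, hx]
  have hxx' : x' * x' = 1 := by rw [← sq, hx']
  have hcomm : IsMulCommutative (Subgroup.closure ({x, x'} : Set G)) := by
    apply Subgroup.isMulCommutative_closure
    rintro a (rfl | rfl) b (rfl | rfl)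
    · rfl
    · exact hc
    · exact hc.symm
    · rfl
  have hm : ∀ u ∈ four x x' hx hx' hc, u ∈ Subgroup.closure ({x, x'} : Set G) := by
    have h1 : x ∈ Subgroup.closure ({x, x'} : Set G) := Subgroup.subset_closure (by simp)
    have h2 : x' ∈ Subgroup.closure ({x, x'} : Set G) := Subgroup.subset_closure (by simp)
    rintro u (rfl | rfl | rfl | rfl)
    · exact one_mem _
    · exact h1
    · exact h2
    · exact mul_mem h1 h2
  have := hcomm.is_comm.comm ⟨g, hm g hg⟩ ⟨h, hm h hh⟩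
  exact congrArg Subtype.val this

/-- `B ∪ Bw`, when `w` normalizes `B` and `w^2 ∈ B`. -/
def ext2 (B : Subgroup G) (w : G) (hw : w ∈ normalizer (B : Set G)) (hw2 : w ^ 2 ∈ B) : Subgroup G where
  carrier := {x | x ∈ B ∨ x * w⁻¹ ∈ B}
  one_mem' := Or.inl (one_mem _)
  mul_mem' := by
    have hn := mem_normalizer_iff.mp hw
    have hwb : ∀ b ∈ B, w * b * w⁻¹ ∈ B := fun b hb => (hn b).mp hb
    have hww : w * w ∈ B := by rwa [← sq]
    rintro x y (hx | hx) (hy | hy)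
    · exact Or.inl (mul_mem hx hy)
    · right
      have : x * y * w⁻¹ = x * (y * w⁻¹) := by group
      rw [this]
      exact mul_mem hx hy
    · right
      have : x * y * w⁻¹ = (x * w⁻¹) * (w * y * w⁻¹) := by group
      rw [this]
      exact mul_mem hx (hwb y hy)
    · left
      have : x * y = (x * w⁻¹) * (w * (y * w⁻¹) * w⁻¹) * (w * w) := by group
      rw [this]
      exact mul_mem (mul_mem hx (hwb _ hy)) hww
  inv_mem' := by
    have hn := mem_normalizer_iff.mp hw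
    have hwb : ∀ b ∈ B, w * b * w⁻¹ ∈ B := fun b hb => (hn b).mp hb
    have hww : w * w ∈ B := by rwa [← sq]
    rintro x (hx | hx)
    · exact Or.inl (inv_mem hx)
    · right
      -- `x⁻¹ w⁻¹ = (w x⁻¹ ... )`
      have h1 : (x * w⁻¹)⁻¹ ∈ B := inv_mem hx
      have h2 : w * ((x * w⁻¹)⁻¹ * w⁻¹ * w⁻¹) * w⁻¹ ∈ B ∨ True := Or.inr trivial
      have h3 : x⁻¹ * w⁻¹ = (w * w)⁻¹ * (w * (x * w⁻¹)⁻¹ * w⁻¹) := by group
      rw [h3]
      exact mul_mem (inv_mem hww) (hwb _ h1)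

theorem mem_ext2 {B : Subgroup G} {w : G} {hw : w ∈ normalizer (B : Set G)} {hw2 : w ^ 2 ∈ B} {x : G} :
    x ∈ ext2 B w hw hw2 ↔ x ∈ B ∨ x * w⁻¹ ∈ B := Iff.rfl

theorem le_ext2 {B : Subgroup G} {w : G} {hw : w ∈ normalizer (B : Set G)} {hw2 : w ^ 2 ∈ B} :
    B ≤ ext2 B w hw hw2 := fun _ h => Or.inl h

theorem w_mem_ext2 {B : Subgroup G} {w : G} {hw : w ∈ normalizer (B : Set G)} {hw2 : w ^ 2 ∈ B} :
    w ∈ ext2 B w hw hw2 := Or.inr (by simp [one_mem])

/-- The setting. -/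
structure Ctx (A T : Subgroup G) (z r w : G) : Prop where
  hT : IsMax2 T A
  hzT : z ∈ T
  hz2 : z ^ 2 = 1
  hz1 : z ≠ 1
  hzc : ∀ h ∈ T, h * z = z * h
  hC : ∀ v ∈ T, v ^ 2 = 1 → v ≠ 1 → v ≠ z → ∀ h ∈ T, h * v = v * h →
    h = 1 ∨ h = v ∨ h = z ∨ h = v * z
  hrT : r ∈ T
  hr : r ^ 2 = z
  hrv : ∀ v ∈ T, v ^ 2 = 1 → v ≠ 1 → v ≠ z → r * v * r⁻¹ = v * z
  hwN : w ∈ normalizer (A : Set G)
  hwT : ∀ h ∈ T, w * h = h * w
  hw2 : w ^ 2 = z

namespace Ctx

variable {A T : Subgroup G} {z r w : G} (C : Ctx A T z r w)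

/-- The four-group of a noncentral involution. -/
def F {v : G} (hv : v ∈ T) (h2 : v ^ 2 = 1) : Subgroup G := four v z h2 C.hz2 (C.hzc v hv)

theorem F_le_T {v : G} (hv : v ∈ T) (h2 : v ^ 2 = 1) : C.F hv h2 ≤ T := by
  rintro x (rfl | rfl | rfl | rfl)
  · exact one_mem _
  · exact hv
  · exact C.hzT
  · exact mul_mem hv C.hzT

theorem z_mem_F {v : G} (hv : v ∈ T) (h2 : v ^ 2 = 1) : z ∈ C.F hv h2 := Or.inr (Or.inr (Or.inl rfl))

theorem v_mem_F {v : G} (hv : v ∈ T) (h2 : v ^ 2 = 1) : v ∈ C.F hv h2 := Or.inr (Or.inl rfl)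

theorem conj_cancel {h q f : G} (e : h * q * h⁻¹ = h * f * h⁻¹) : q = f :=
  mul_left_cancel (mul_right_cancel e)

/-- The core of the Sylow computation. -/
theorem core {v : G} (hv : v ∈ T) (h2 : v ^ 2 = 1) (h1 : v ≠ 1) (hz : v ≠ z) {Q : Subgroup G}
    (hFQ : C.F hv h2 ≤ Q) {e' : G} (he : e' ∈ C.F hv h2) (he1 : e' ≠ 1)
    (hcomm : ∀ q ∈ Q, q * e' = e' * q) {h : G} (hh : ∀ q ∈ Q, h * q * h⁻¹ ∈ T)
    (hne : h * e' * h⁻¹ ≠ z) : Q ≤ C.F hv h2 := by
  intro q hq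
  have heT : h * e' * h⁻¹ ∈ T := hh e' (hFQ he)
  have he2 : (h * e' * h⁻¹) ^ 2 = 1 := by
    rw [conj_pow, four_sq he]; group
  have he1' : h * e' * h⁻¹ ≠ 1 := by
    intro h0
    apply he1
    apply conj_cancel (h := h)
    rw [h0]; group
  have hC' := C.hC _ heT he2 he1' hne
  obtain ⟨e'', he'', he''1, he''ne⟩ : ∃ e'' ∈ C.F hv h2, e'' ≠ 1 ∧ e'' ≠ e' := by
    by_cases hez : e' = z
    · exact ⟨v, C.v_mem_F hv h2, h1, by rw [hez]; exact hz⟩
    · exact ⟨z, C.z_mem_F hv h2, C.hz1, fun h => hez h.symm⟩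
  have hconjmul : ∀ x y : G, h * x * h⁻¹ * (h * y * h⁻¹) = h * (x * y) * h⁻¹ := by
    intro x y; group
  have hconjcomm : ∀ x y : G, x * y = y * x → (h * x * h⁻¹) * (h * y * h⁻¹) = (h * y * h⁻¹) * (h * x * h⁻¹) := by
    intro x y hxy
    rw [hconjmul, hconjmul, hxy]
  -- `z` in the image of `F`
  obtain ⟨f, hf, hfz⟩ : ∃ f ∈ C.F hv h2, h * f * h⁻¹ = z := by
    have h3 := hC' (h * e'' * h⁻¹) (hh e'' (hFQ he'')) (hconjcomm _ _ (four_comm he'' he))
    rcases h3 with h3 | h3 | h3 | h3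
    · exfalso
      apply he''1
      apply conj_cancel (h := h)
      rw [h3]; group
    · exact absurd (conj_cancel h3) he''ne
    · exact ⟨e'', he'', h3⟩
    · refine ⟨e' * e'', mul_mem he he'', ?_⟩
      rw [← hconjmul, h3, ← mul_assoc, ← sq, he2, one_mul]
  have h3 := hC' (h * q * h⁻¹) (hh q hq) (hconjcomm _ _ (hcomm q hq))
  rcases h3 with h3 | h3 | h3 | h3
  · have : q = 1 := by
      apply conj_cancel (h := h)
      rw [h3]; group
    rw [this]
    exact one_mem _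
  · rw [conj_cancel h3]
    exact he
  · rw [← hfz] at h3
    rw [conj_cancel h3]
    exact hf
  · rw [← hfz, hconjmul] at h3
    rw [conj_cancel h3]
    exact mul_mem he hf

theorem F_le_A {v : G} (hv : v ∈ T) (h2 : v ^ 2 = 1) : C.F hv h2 ≤ A :=
  (C.F_le_T hv h2).trans C.hT.le

/-- `F` is Sylow in its centralizer in `A`. -/
theorem max_centralizer [Finite G] {v : G} (hv : v ∈ T) (h2 : v ^ 2 = 1) (h1 : v ≠ 1) (hz : v ≠ z) :
    IsMax2 (C.F hv h2) (A ⊓ centralizer (C.F hv h2 : Set G)) := by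
  refine ⟨le_inf (C.F_le_A hv h2) ?_, isPGroup_four, fun Q hQ hP hFQ => ?_⟩
  · intro x hx
    rw [mem_centralizer_iff]
    intro y hy
    exact four_comm hy hx
  · obtain ⟨g, hgA, hg⟩ := C.hT.exists_conj (hQ.trans inf_le_left) hP
    have hcq : ∀ e ∈ C.F hv h2, ∀ q ∈ Q, q * e = e * q := by
      intro e he q hq
      have := mem_centralizer_iff.mp (hQ hq).2 e he
      exact this.symm
    by_cases hgz : g * z * g⁻¹ = z
    · refine C.core hv h2 h1 hz hFQ (C.v_mem_F hv h2) h1 (hcq _ (C.v_mem_F hv h2)) hg ?_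
      intro h0
      rw [← hgz] at h0
      exact hz (conj_cancel h0)
    · exact C.core hv h2 h1 hz hFQ (C.z_mem_F hv h2) C.hz1 (hcq _ (C.z_mem_F hv h2)) hg hgz

theorem zA (C : Ctx A T z r w) : z ∈ A := C.hT.le C.hzT

theorem w_norm_F {v : G} (hv : v ∈ T) (h2 : v ^ 2 = 1) : w ∈ normalizer (C.F hv h2 : Set G) := by
  rw [mem_normalizer_iff]
  intro h
  have hcw : ∀ x ∈ C.F hv h2, w * x * w⁻¹ = x := by
    intro x hx
    rw [C.hwT x (C.F_le_T hv h2 hx)]
    group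
  constructor
  · intro hh
    rw [hcw h hh]
    exact hh
  · intro hh
    have h3 := C.hwT _ (C.F_le_T hv h2 hh)
    have h4 : h = w * h * w⁻¹ := by
      have : w * (w * h * w⁻¹) = w * h := by rw [h3]; group
      exact (mul_left_cancel this).symm
    rw [h4]
    exact hh

/-- `N_A(F)` fixes `z`. -/
theorem fix_z [Finite G] {v : G} (hv : v ∈ T) (h2 : v ^ 2 = 1) (h1 : v ≠ 1) (hz : v ≠ z) {g : G} (hgA : g ∈ A)
    (hgF : ∀ f ∈ C.F hv h2, g * f * g⁻¹ ∈ C.F hv h2) : g * z * g⁻¹ = z := by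
  classical
  set F := C.F hv h2 with hFdef
  have hw2A : w ^ 2 ∈ A := by rw [C.hw2]; exact C.zA
  have hw2F : w ^ 2 ∈ F := by rw [C.hw2]; exact C.z_mem_F hv h2
  have hwF := C.w_norm_F hv h2
  let X := ext2 A w C.hwN hw2A
  let P := ext2 F w hwF hw2F
  -- the centralizer in `X`
  let Y : Subgroup G := centralizer (F : Set G) ⊓ X
  have hFA : F ≤ A := C.F_le_A hv h2
  have hwcF : ∀ f ∈ F, w * f = f * w := fun f hf => C.hwT f (C.F_le_T hv h2 hf)
  -- squares in `P`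
  have hPsq : ∀ p ∈ P, p ^ 2 = 1 ∨ p ^ 2 = z := by
    rintro p (hp | hp)
    · exact Or.inl (four_sq hp)
    · right
      have hpe : p = (p * w⁻¹) * w := by group
      have h3 : Commute (p * w⁻¹) w := (hwcF _ hp).symm
      rw [hpe, h3.mul_pow, four_sq hp, one_mul, C.hw2]
  have hPp : IsPGroup 2 P := by
    rintro ⟨p, hp⟩
    refine ⟨2, ?_⟩
    apply Subtype.ext
    show p ^ 2 ^ 2 = 1
    rw [show 2 ^ 2 = 2 * 2 by norm_num, pow_mul]
    rcases hPsq p hp with h3 | h3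
    · rw [h3]; simp
    · rw [h3, C.hz2]
  have hPX : P ≤ X := by
    rintro p (hp | hp)
    · exact Or.inl (hFA hp)
    · exact Or.inr (hFA hp)
  have hPC : P ≤ centralizer (F : Set G) := by
    rintro p (hp | hp)
    · rw [mem_centralizer_iff]
      intro f hf
      exact four_comm hf hp
    · rw [mem_centralizer_iff]
      intro f hf
      have h3 : f * (p * w⁻¹) = (p * w⁻¹) * f := four_comm hf hp
      calc f * p = f * (p * w⁻¹) * w := by group
        _ = (p * w⁻¹) * f * w := by rw [h3]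
        _ = (p * w⁻¹) * (f * w) := by group
        _ = (p * w⁻¹) * (w * f) := by rw [hwcF f hf]
        _ = p * f := by group
  have hmax : IsMax2 P Y := by
    refine ⟨le_inf hPC hPX, hPp, fun Q hQ hQp hPQ => ?_⟩
    have hP1 := C.max_centralizer hv h2 h1 hz
    have hQ0 : Q ⊓ A ≤ F := by
      apply hP1.max _ _ (hQp.to_le inf_le_left)
      · exact le_inf ((le_ext2).trans hPQ) hFA
      · exact fun x hx => ⟨hx.2, (hQ hx.1).1⟩
    intro q hq
    have hw : w ∈ Q := hPQ w_mem_ext2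
    rcases (hQ hq).2 with h3 | h3
    · exact Or.inl (hQ0 (Subgroup.mem_inf.mpr ⟨hq, h3⟩))
    · exact Or.inr (hQ0 (Subgroup.mem_inf.mpr ⟨mul_mem hq (inv_mem hw), h3⟩))
  -- surjectivity of conjugation on `F`
  have hsurj : ∀ f ∈ F, ∃ f₀ ∈ F, g * f₀ * g⁻¹ = f := by
    let c : F → F := fun f => ⟨g * f * g⁻¹, hgF f f.2⟩
    have hc : Function.Injective c := by
      intro f f' h0
      have := congrArg Subtype.val h0
      exact Subtype.ext (conj_cancel this)
    intro f hf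
    obtain ⟨f₀, hf₀⟩ := (Finite.injective_iff_surjective.mp hc) ⟨f, hf⟩
    exact ⟨f₀, f₀.2, congrArg Subtype.val hf₀⟩
  let Q' : Subgroup G := P.map (MulAut.conj g).toMonoidHom
  have hgX : g ∈ X := Or.inl hgA
  have hQ'Y : Q' ≤ Y := by
    rintro _ ⟨p, hp, rfl⟩
    refine Subgroup.mem_inf.mpr ⟨?_, mul_mem (mul_mem hgX (hPX hp)) (inv_mem hgX)⟩
    rw [mem_centralizer_iff]
    intro f hf
    obtain ⟨f₀, hf₀, rfl⟩ := hsurj f hf
    have := mem_centralizer_iff.mp (hPC hp) f₀ hf₀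
    simp only [MulEquiv.coe_toMonoidHom, MulAut.conj_apply]
    calc g * f₀ * g⁻¹ * (g * p * g⁻¹) = g * (f₀ * p) * g⁻¹ := by group
      _ = g * (p * f₀) * g⁻¹ := by rw [this]
      _ = g * p * g⁻¹ * (g * f₀ * g⁻¹) := by group
  have hQ'p : IsPGroup 2 Q' := hPp.map _
  obtain ⟨h, hhY, hh⟩ := hmax.exists_conj hQ'Y hQ'p
  have hp := hh (g * w * g⁻¹) ⟨w, w_mem_ext2, by simp⟩
  have hpsq : (h * (g * w * g⁻¹) * h⁻¹) ^ 2 = h * (g * z * g⁻¹) * h⁻¹ := by
    rw [conj_pow, conj_pow, C.hw2]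
  have hgzF : g * z * g⁻¹ ∈ F := hgF z (C.z_mem_F hv h2)
  have hhc : h * (g * z * g⁻¹) * h⁻¹ = g * z * g⁻¹ := by
    have := mem_centralizer_iff.mp hhY.1 _ hgzF
    rw [← this]
    group
  rcases hPsq _ hp with h3 | h3
  · exfalso
    rw [hpsq, hhc] at h3
    apply C.hz1
    apply conj_cancel (h := g)
    rw [h3]; group
  · rw [hpsq, hhc] at h3
    exact h3

end Ctx

end Cfsg.Agent.Lib.KleinSD
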