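import Cfsg.Agent.Lib.KleinSD.Fusion

/-!
# Weak closure of `z`, and the Sylow structure of normalizers of four-groups
-/

set_option autoImplicit false
set_option linter.unusedSectionVars false
set_option linter.unusedVariables false

namespace Cfsg.Agent.Lib.KleinSD

open Subgroup

variable {G : Type*} [Group G] [Finite G]

theorem mem_normalizer_of_conj_mem {B : Subgroup G} {g : G} (h : ∀ b ∈ B, g * b * g⁻¹ ∈ B) :
    g ∈ normalizer (B : Set G) := by
  rw [mem_normalizer_iff]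
  intro x
  refine ⟨h x, fun hx => ?_⟩
  let c : B → B := fun f => ⟨g * f * g⁻¹, h f f.2⟩
  have hc : Function.Injective c := by
    intro f f' h0
    have := congrArg Subtype.val h0
    exact Subtype.ext (Ctx.conj_cancel this)
  obtain ⟨f₀, hf₀⟩ := (Finite.injective_iff_surjective.mp hc) ⟨_, hx⟩
  have : g * f₀ * g⁻¹ = g * x * g⁻¹ := congrArg Subtype.val hf₀
  rw [← Ctx.conj_cancel this]
  exact f₀.2

namespace Ctx

variable {A T : Subgroup G} {z r w : G} (C : Ctx A T z r w)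
include C

/-- **`z` is weakly closed in `T`.** -/
theorem weak_closed {g : G} (hgA : g ∈ A) (hgz : g * z * g⁻¹ ∈ T) : g * z * g⁻¹ = z := by
  by_contra hne
  set v := g * z * g⁻¹ with hv_def
  have hv2 : v ^ 2 = 1 := by rw [hv_def, conj_pow, C.hz2]; group
  have hv1 : v ≠ 1 := by
    intro h0
    apply C.hz1
    apply conj_cancel (h := g)
    rw [← hv_def, h0]; group
  let F := C.F hgz hv2
  let K : Subgroup G := A ⊓ centralizer ({z} : Set G)
  have hTK : T ≤ K := by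
    refine le_inf C.hT.le fun t ht => ?_
    rw [mem_centralizer_iff]
    rintro _ rfl
    exact (C.hzc t ht).symm
  have hmaxK : IsMax2 T K := C.hT.of_le hTK inf_le_left
  let F₀ : Subgroup G := F.map (MulAut.conj g⁻¹).toMonoidHom
  have hgzg : g⁻¹ * v * g = z := by rw [hv_def]; group
  have hF₀K : F₀ ≤ K := by
    rintro _ ⟨f, hf, rfl⟩
    simp only [MulEquiv.coe_toMonoidHom, MulAut.conj_apply, inv_inv]
    refine Subgroup.mem_inf.mpr ⟨mul_mem (mul_mem (inv_mem hgA) (C.F_le_A hgz hv2 hf)) hgA, ?_⟩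
    rw [mem_centralizer_iff]
    intro x hx
    have hx' : x = z := hx
    rw [hx']
    have h3 : f * v = v * f := four_comm hf (C.v_mem_F hgz hv2)
    calc z * (g⁻¹ * f * g) = (g⁻¹ * v * g) * (g⁻¹ * f * g) := by rw [hgzg]
      _ = g⁻¹ * (v * f) * g := by group
      _ = g⁻¹ * (f * v) * g := by rw [h3]
      _ = (g⁻¹ * f * g) * (g⁻¹ * v * g) := by group
      _ = (g⁻¹ * f * g) * z := by rw [hgzg]
  have hF₀p : IsPGroup 2 F₀ := (isPGroup_four).map _
  obtain ⟨h, hhK, hh⟩ := hmaxK.exists_conj hF₀K hF₀p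
  have hhA : h ∈ A := hhK.1
  have hhz : h * z * h⁻¹ = z := by
    have := mem_centralizer_iff.mp hhK.2 z rfl
    rw [← this]
    group
  let c := h * g⁻¹
  have hcA : c ∈ A := mul_mem hhA (inv_mem hgA)
  have hcF : ∀ f ∈ F, c * f * c⁻¹ ∈ T := by
    intro f hf
    have := hh (g⁻¹ * f * g) ⟨f, hf, by simp⟩
    convert this using 1
    simp only [c]
    group
  have hcv : c * v * c⁻¹ = z := by
    simp only [c]
    calc h * g⁻¹ * v * (h * g⁻¹)⁻¹ = h * (g⁻¹ * v * g) * h⁻¹ := by group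
      _ = z := by rw [hgzg, hhz]
  let u := c * z * c⁻¹
  have huT : u ∈ T := hcF z (C.z_mem_F hgz hv2)
  have hu2 : u ^ 2 = 1 := by
    show (c * z * c⁻¹) ^ 2 = 1
    rw [conj_pow, C.hz2]; group
  have hu1 : u ≠ 1 := by
    intro h0
    apply C.hz1
    apply conj_cancel (h := c)
    show c * z * c⁻¹ = _
    rw [show c * z * c⁻¹ = u from rfl, h0]; group
  have huz : u ≠ z := by
    intro h0
    apply hne
    have h3 : c * z * c⁻¹ = c * v * c⁻¹ := by
      rw [hcv]; exact h0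
    exact (conj_cancel h3).symm
  have hrz : r * z * r⁻¹ = z := by
    rw [C.hzc r C.hrT]; group
  let g' := c * r * c⁻¹
  have hg'A : g' ∈ A := mul_mem (mul_mem hcA (C.hT.le C.hrT)) (inv_mem hcA)
  have hg'u : g' * u * g'⁻¹ = u := by
    simp only [g', u]
    calc c * r * c⁻¹ * (c * z * c⁻¹) * (c * r * c⁻¹)⁻¹ = c * (r * z * r⁻¹) * c⁻¹ := by group
      _ = c * z * c⁻¹ := by rw [hrz]
  have hg'z : g' * z * g'⁻¹ = z * u := by
    have h3 : c⁻¹ * z * c = v := by
      rw [← hcv]; group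
    simp only [g', u]
    calc c * r * c⁻¹ * z * (c * r * c⁻¹)⁻¹ = c * (r * (c⁻¹ * z * c) * r⁻¹) * c⁻¹ := by group
      _ = c * (v * z) * c⁻¹ := by rw [h3, C.hrv v hgz hv2 hv1 hne]
      _ = (c * v * c⁻¹) * (c * z * c⁻¹) := by group
      _ = z * (c * z * c⁻¹) := by rw [hcv]
  have hfix := C.fix_z huT hu2 hu1 huz hg'A (by
    rintro f (rfl | rfl | rfl | rfl)
    · left; group
    · right; left; exact hg'u
    · rw [hg'z]; right; right; right
      exact (C.hzc _ huT).symm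
    · have : g' * (u * z) * g'⁻¹ = (g' * u * g'⁻¹) * (g' * z * g'⁻¹) := by group
      rw [this, hg'u, hg'z]
      have h3 : u * (z * u) = z := by
        rw [← mul_assoc, C.hzc _ huT, mul_assoc, ← sq, hu2, mul_one]
      rw [h3]
      right; right; left; rfl)
  rw [hg'z] at hfix
  exact hu1 (by simpa using hfix)

theorem y_ne_conj_z {v : G} (hv : v ∈ T) (hz : v ≠ z) {g : G} (hg : g ∈ A) : g * v * g⁻¹ ≠ z := by
  intro h0
  apply hz
  have := C.weak_closed (g := g⁻¹) (inv_mem hg) (by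
    rw [← h0]
    have : g⁻¹ * (g * v * g⁻¹) * g⁻¹⁻¹ = v := by group
    rw [this]
    exact hv)
  rw [← h0] at this
  rw [← h0]
  have h3 : g⁻¹ * (g * v * g⁻¹) * g⁻¹⁻¹ = v := by group
  rw [h3] at this
  exact this

/-- `F` is Sylow in the centralizer of `v` in `A`. -/
theorem max_single {v : G} (hv : v ∈ T) (h2 : v ^ 2 = 1) (h1 : v ≠ 1) (hz : v ≠ z) :
    IsMax2 (C.F hv h2) (A ⊓ centralizer ({v} : Set G)) := by
  refine ⟨le_inf (C.F_le_A hv h2) ?_, isPGroup_four, fun Q hQ hP hFQ => ?_⟩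
  · intro x hx
    rw [mem_centralizer_iff]
    rintro _ rfl
    exact four_comm (C.v_mem_F hv h2) hx
  · obtain ⟨g, hgA, hg⟩ := C.hT.exists_conj (hQ.trans inf_le_left) hP
    refine C.core hv h2 h1 hz hFQ (C.v_mem_F hv h2) h1 ?_ hg (C.y_ne_conj_z hv hz hgA)
    intro q hq
    exact (mem_centralizer_iff.mp (hQ hq).2 v rfl).symm

/-- Adjusting a fusion `v → u`: we can also fix `z`. -/
theorem exists_c1 {v u : G} (hv : v ∈ T) (hv2 : v ^ 2 = 1) (hv1 : v ≠ 1) (hvz : v ≠ z)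
    (hu : u ∈ T) (hu2 : u ^ 2 = 1) (hu1 : u ≠ 1) (huz : u ≠ z) {c : G} (hcA : c ∈ A)
    (hc : c * v * c⁻¹ = u) : ∃ c₁ ∈ A, c₁ * v * c₁⁻¹ = u ∧ c₁ * z * c₁⁻¹ = z := by
  let F := C.F hv hv2
  let F' : Subgroup G := F.map (MulAut.conj c).toMonoidHom
  have hF' : F' ≤ A ⊓ centralizer ({u} : Set G) := by
    rintro _ ⟨f, hf, rfl⟩
    simp only [MulEquiv.coe_toMonoidHom, MulAut.conj_apply]
    refine Subgroup.mem_inf.mpr
      ⟨mul_mem (mul_mem hcA (C.F_le_A hv hv2 hf)) (inv_mem hcA), ?_⟩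
    rw [mem_centralizer_iff]
    rintro _ rfl
    have h3 : v * f = f * v := four_comm (C.v_mem_F hv hv2) hf
    rw [← hc]
    calc c * v * c⁻¹ * (c * f * c⁻¹) = c * (v * f) * c⁻¹ := by group
      _ = c * (f * v) * c⁻¹ := by rw [h3]
      _ = c * f * c⁻¹ * (c * v * c⁻¹) := by group
  obtain ⟨h, hhK, hh⟩ := (C.max_single hu hu2 hu1 huz).exists_conj hF' ((isPGroup_four).map _)
  have hhA : h ∈ A := hhK.1
  have hhu : h * u * h⁻¹ = u := by
    have := mem_centralizer_iff.mp hhK.2 u rfl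
    rw [← this]
    group
  refine ⟨h * c, mul_mem hhA hcA, ?_, ?_⟩
  · calc h * c * v * (h * c)⁻¹ = h * (c * v * c⁻¹) * h⁻¹ := by group
      _ = u := by rw [hc, hhu]
  · have h3 : h * c * z * (h * c)⁻¹ ∈ C.F hu hu2 := by
      have := hh (c * z * c⁻¹) ⟨z, C.z_mem_F hv hv2, rfl⟩
      convert this using 1
      group
    exact C.weak_closed (mul_mem hhA hcA) (C.F_le_T hu hu2 h3)

/-- `T ⊓ N(F)` is Sylow in `N_A(F)`. -/
theorem max_normalizer {u : G} (hu : u ∈ T) (hu2 : u ^ 2 = 1) (hu1 : u ≠ 1) (huz : u ≠ z) :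
    IsMax2 (T ⊓ normalizer (C.F hu hu2 : Set G)) (A ⊓ normalizer (C.F hu hu2 : Set G)) := by
  set Fu := C.F hu hu2 with hFu
  refine ⟨inf_le_inf_right _ C.hT.le, C.hT.isP.to_le inf_le_left, fun Q hQ hP hDQ => ?_⟩
  have hrN : r ∈ T ⊓ normalizer (Fu : Set G) := by
    refine Subgroup.mem_inf.mpr ⟨C.hrT, ?_⟩
    apply mem_normalizer_of_conj_mem
    have hrz : r * z * r⁻¹ = z := by
      rw [C.hzc r C.hrT]; group
    have hru := C.hrv u hu hu2 hu1 huz
    rintro f (rfl | rfl | rfl | rfl)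
    · left; group
    · rw [hru]; right; right; right; rfl
    · rw [hrz]; right; right; left; rfl
    · have : r * (u * z) * r⁻¹ = (r * u * r⁻¹) * (r * z * r⁻¹) := by group
      rw [this, hru, hrz, mul_assoc, ← sq, C.hz2, mul_one]
      right; left; rfl
  have hFuN : Fu ≤ T ⊓ normalizer (Fu : Set G) := by
    intro f hf
    refine Subgroup.mem_inf.mpr ⟨C.F_le_T hu hu2 hf, ?_⟩
    apply mem_normalizer_of_conj_mem
    intro x hx
    have h3 : f * x = x * f := four_comm hf hx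
    rw [h3, mul_assoc, mul_inv_cancel, mul_one]
    exact hx
  have hQ₁ : Q ⊓ centralizer ({u} : Set G) ≤ Fu := by
    apply (C.max_single hu hu2 hu1 huz).max _ _ (hP.to_le inf_le_left)
    · refine le_inf (hFuN.trans hDQ) ?_
      intro x hx
      rw [mem_centralizer_iff]
      rintro _ rfl
      exact four_comm (C.v_mem_F hu hu2) hx
    · exact fun x hx => Subgroup.mem_inf.mpr ⟨(hQ hx.1).1, hx.2⟩
  intro q hq
  have hqA : q ∈ A := (hQ hq).1
  have hqN : q ∈ normalizer (Fu : Set G) := (hQ hq).2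
  refine Subgroup.mem_inf.mpr ⟨?_, hqN⟩
  have hnF : ∀ f ∈ Fu, q * f * q⁻¹ ∈ Fu := fun f hf => (mem_normalizer_iff.mp hqN f).mp hf
  have hqz : q * z * q⁻¹ = z := C.fix_z hu hu2 hu1 huz hqA hnF
  have hcomm : q ∈ centralizer ({u} : Set G) ∨ r⁻¹ * q ∈ centralizer ({u} : Set G) := by
    have hmem : ∀ x : G, x * u * x⁻¹ = u → x ∈ centralizer ({u} : Set G) := by
      intro x hx
      rw [mem_centralizer_iff]
      rintro _ rfl
      rw [mul_inv_eq_iff_eq_mul] at hx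
      exact hx.symm
    rcases hnF u (C.v_mem_F hu hu2) with h3 | h3 | h3 | h3
    · exfalso
      apply hu1
      apply conj_cancel (h := q)
      rw [h3]; group
    · exact Or.inl (hmem q h3)
    · exfalso
      apply huz
      apply conj_cancel (h := q)
      rw [h3, hqz]
    · right
      apply hmem
      have hru := C.hrv u hu hu2 hu1 huz
      have h4 : r⁻¹ * (u * z) * r = u := by
        rw [← hru]; group
      calc r⁻¹ * q * u * (r⁻¹ * q)⁻¹ = r⁻¹ * (q * u * q⁻¹) * r := by group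
        _ = u := by rw [h3, h4]
  rcases hcomm with h3 | h3
  · exact C.F_le_T hu hu2 (hQ₁ (Subgroup.mem_inf.mpr ⟨hq, h3⟩))
  · have h4 : r⁻¹ * q ∈ T := C.F_le_T hu hu2 (hQ₁ (Subgroup.mem_inf.mpr
      ⟨mul_mem (inv_mem (hDQ hrN)) hq, h3⟩))
    have : q = r * (r⁻¹ * q) := by group
    rw [this]
    exact mul_mem C.hrT h4

/-- Second adjustment: the fusion `v → u` can be chosen to carry `r` into `T`. -/
theorem exists_c2 {v u : G} (hv : v ∈ T) (hv2 : v ^ 2 = 1) (hv1 : v ≠ 1) (hvz : v ≠ z)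
    (hu : u ∈ T) (hu2 : u ^ 2 = 1) (hu1 : u ≠ 1) (huz : u ≠ z) {c : G} (hcA : c ∈ A)
    (hc : c * v * c⁻¹ = u) :
    ∃ c₂ ∈ A, (c₂ * v * c₂⁻¹ = u ∨ c₂ * v * c₂⁻¹ = u * z) ∧ c₂ * z * c₂⁻¹ = z ∧ c₂ * r * c₂⁻¹ ∈ T := by
  obtain ⟨c₁, hc₁A, hc₁v, hc₁z⟩ := C.exists_c1 hv hv2 hv1 hvz hu hu2 hu1 huz hcA hc
  let F := C.F hv hv2
  let Fu := C.F hu hu2
  -- `c₁` maps `F` onto `Fu`
  have hmap : ∀ f ∈ F, c₁ * f * c₁⁻¹ ∈ Fu := by
    rintro f (rfl | rfl | rfl | rfl)
    · left; group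
    · right; left; exact hc₁v
    · right; right; left; exact hc₁z
    · right; right; right
      have : c₁ * (v * z) * c₁⁻¹ = (c₁ * v * c₁⁻¹) * (c₁ * z * c₁⁻¹) := by group
      rw [this, hc₁v, hc₁z]
  have hmap' : ∀ f ∈ Fu, c₁⁻¹ * f * c₁ ∈ F := by
    have e1 : c₁⁻¹ * u * c₁ = v := by rw [← hc₁v]; group
    have e2 : c₁⁻¹ * z * c₁ = z := by
      nth_rewrite 1 [← hc₁z]; group
    rintro f (rfl | rfl | rfl | rfl)
    · left; group
    · right; left; exact e1
    · right; right; left; exact e2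
    · right; right; right
      have : c₁⁻¹ * (u * z) * c₁ = (c₁⁻¹ * u * c₁) * (c₁⁻¹ * z * c₁) := by group
      rw [this, e1, e2]
  let D₁ : Subgroup G := T ⊓ normalizer (F : Set G)
  let D' : Subgroup G := D₁.map (MulAut.conj c₁).toMonoidHom
  have hD' : D' ≤ A ⊓ normalizer (Fu : Set G) := by
    rintro _ ⟨d, hd, rfl⟩
    simp only [MulEquiv.coe_toMonoidHom, MulAut.conj_apply]
    refine Subgroup.mem_inf.mpr
      ⟨mul_mem (mul_mem hc₁A (C.hT.le hd.1)) (inv_mem hc₁A), ?_⟩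
    apply mem_normalizer_of_conj_mem
    intro x hx
    have h3 : d * (c₁⁻¹ * x * c₁) * d⁻¹ ∈ F :=
      (mem_normalizer_iff.mp (show d ∈ normalizer (F : Set G) from hd.2) _).mp (hmap' x hx)
    have h4 := hmap _ h3
    convert h4 using 1
    group
  have hD'p : IsPGroup 2 D' := (C.hT.isP.to_le inf_le_left).map _
  obtain ⟨h, hhK, hh⟩ := (C.max_normalizer hu hu2 hu1 huz).exists_conj hD' hD'p
  have hhA : h ∈ A := hhK.1
  have hnF : ∀ f ∈ Fu, h * f * h⁻¹ ∈ Fu := fun f hf =>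
    (mem_normalizer_iff.mp (show h ∈ normalizer (Fu : Set G) from hhK.2) f).mp hf
  have hhz : h * z * h⁻¹ = z := C.fix_z hu hu2 hu1 huz hhA hnF
  have hrD : r ∈ D₁ := by
    refine Subgroup.mem_inf.mpr ⟨C.hrT, ?_⟩
    apply mem_normalizer_of_conj_mem
    have hrz : r * z * r⁻¹ = z := by
      rw [C.hzc r C.hrT]; group
    have hru := C.hrv v hv hv2 hv1 hvz
    rintro f (rfl | rfl | rfl | rfl)
    · left; group
    · rw [hru]; right; right; right; rfl
    · rw [hrz]; right; right; left; rfl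
    · have : r * (v * z) * r⁻¹ = (r * v * r⁻¹) * (r * z * r⁻¹) := by group
      rw [this, hru, hrz, mul_assoc, ← sq, C.hz2, mul_one]
      right; left; rfl
  refine ⟨h * c₁, mul_mem hhA hc₁A, ?_, ?_, ?_⟩
  · have e : h * c₁ * v * (h * c₁)⁻¹ = h * u * h⁻¹ := by
      rw [← hc₁v]; group
    rw [e]
    rcases hnF u (C.v_mem_F hu hu2) with h3 | h3 | h3 | h3
    · exfalso
      apply hu1
      apply conj_cancel (h := h)
      rw [h3]; group
    · exact Or.inl h3
    · exfalso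
      apply huz
      apply conj_cancel (h := h)
      rw [h3, hhz]
    · exact Or.inr h3
  · calc h * c₁ * z * (h * c₁)⁻¹ = h * (c₁ * z * c₁⁻¹) * h⁻¹ := by group
      _ = z := by rw [hc₁z, hhz]
  · have := hh (c₁ * r * c₁⁻¹) ⟨r, hrD, rfl⟩
    have h4 := (Subgroup.mem_inf.mp this).1
    convert h4 using 1
    group

end Ctx

end Cfsg.Agent.Lib.KleinSD
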