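import Cfsg.Agent.Lib.PGroups.CyclicNormal
import Cfsg.Agent.Lib.KleinSD.Four

/-!
# A normal subgroup of a finite 2-group containing no normal four-subgroup

is cyclic, dihedral, semidihedral or generalized quaternion.
-/

set_option autoImplicit false
set_option linter.unusedSectionVars false
set_option linter.unusedVariables false

namespace Cfsg.Agent.Lib.KleinSD

open Subgroup Cfsg.Agent.Lib.PGroups.Basic Cfsg.Agent.Lib.PGroups.MaxAbelian
  Cfsg.Agent.Lib.PGroups.NormalRankTwo Cfsg.Agent.Lib.PGroups.CyclicNormal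

variable {G : Type*} [Group G] [Finite G]

/-- A noncyclic abelian normal subgroup contains a normal four-group. -/
theorem exists_four_of_noncyclic (hG : IsPGroup 2 G) (A : Subgroup G) [hAn : A.Normal]
    (hAc : IsMulCommutative A) (hnc : ¬ IsCyclic A) :
    ∃ E : Subgroup G, E ≤ A ∧ E.Normal ∧ Nat.card E = 4 ∧ ∀ e ∈ E, e ^ 2 = 1 := by
  classical
  haveI : Fact (Nat.Prime 2) := ⟨Nat.prime_two⟩
  have hcomm : ∀ x ∈ A, ∀ y ∈ A, x * y = y * x := fun x hx y hy =>
    congrArg Subtype.val (hAc.is_comm.comm ⟨x, hx⟩ ⟨y, hy⟩)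
  let Ω : Subgroup G :=
    { carrier := {x | x ∈ A ∧ x ^ 2 = 1}
      one_mem' := ⟨one_mem _, one_pow _⟩
      inv_mem' := fun {x} hx => ⟨inv_mem hx.1, by rw [inv_pow, hx.2, inv_one]⟩
      mul_mem' := fun {x y} hx hy => ⟨mul_mem hx.1 hy.1, by
        rw [(show Commute x y from hcomm x hx.1 y hy.1).mul_pow, hx.2, hy.2, one_mul]⟩ }
  have hΩn : Ω.Normal := by
    constructor
    intro x hx g
    refine ⟨hAn.conj_mem x hx.1 g, ?_⟩
    rw [conj_pow, hx.2]
    group
  have hAp : IsPGroup 2 A := hG.to_subgroup A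
  obtain ⟨E₀, -, hE₀, hE₀c⟩ := exists_card_sq_of_comm hAp
    (fun a b => hAc.is_comm.comm a b) hnc
  have hle : Nat.card E₀ ≤ Nat.card Ω := by
    refine Nat.card_le_card_of_injective
      (fun e => (⟨((e : A) : G), (e : A).2, ?_⟩ : Ω)) ?_
    · have := congrArg Subtype.val (hE₀ e e.2)
      simpa using this
    · intro e e' h
      have h' := congrArg Subtype.val h
      exact Subtype.ext (Subtype.ext h')
  obtain ⟨k, hk⟩ := IsPGroup.iff_card.mp (hG.to_subgroup Ω)
  have h4 : 2 ^ 2 ∣ Nat.card Ω := by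
    rw [hk]
    apply pow_dvd_pow
    by_contra hlt
    have hk2 : k ≤ 1 := by omega
    have : 2 ^ k ≤ 2 ^ 1 := Nat.pow_le_pow_right (by norm_num) hk2
    rw [hE₀c, hk] at hle
    omega
  obtain ⟨E, hEn, hEΩ, hEc⟩ := exists_normal_le_card_eq hG Ω 2 h4
  exact ⟨E, fun e he => (hEΩ he).1, hEn, by simpa using hEc, fun e he => (hEΩ he).2⟩

/-- The classification. -/
theorem classify_rel (hG : IsPGroup 2 G) (T : Subgroup G) [hTn : T.Normal]
    (hE : ∀ E : Subgroup G, E ≤ T → E.Normal → Nat.card E = 4 → (∀ e ∈ E, e ^ 2 = 1) → False) :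
    IsCyclic T ∨ ∃ (n : ℕ) (a y : G), 2 ≤ n ∧ orderOf a = 2 ^ n ∧ a ∈ T ∧ y ∈ T ∧
      (zpowers a).Normal ∧ y ∉ zpowers a ∧ (∀ t ∈ T, t ∈ zpowers a ∨ t * y ∈ zpowers a) ∧
      ((y ^ 2 = a ^ (2 ^ (n - 1)) ∧ y * a * y⁻¹ = a⁻¹) ∨
       (y ^ 2 = 1 ∧ y * a * y⁻¹ = a⁻¹) ∨
       (3 ≤ n ∧ y ^ 2 = 1 ∧ y * a * y⁻¹ = a ^ (2 ^ (n - 1) - 1))) := by
  classical
  haveI : Fact (Nat.Prime 2) := ⟨Nat.prime_two⟩
  obtain ⟨A, hAmax⟩ := (Set.toFinite {A : Subgroup G | A ≤ T ∧ A.Normal ∧ IsMulCommutative A}).exists_maximal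
    ⟨⊥, bot_le, inferInstance, inferInstance⟩
  obtain ⟨hAT, hAn, hAc⟩ := hAmax.1
  have hcycA : IsCyclic A := by
    by_contra hnc
    obtain ⟨E, hEA, hEn, hEc, hE2⟩ := exists_four_of_noncyclic hG A hAc hnc
    exact hE E (hEA.trans hAT) hEn hEc hE2
  -- `A` is self-centralizing in `T`
  have hAcen : A ≤ centralizer (A : Set G) := by
    intro a ha
    rw [mem_centralizer_iff]
    intro b hb
    exact congrArg Subtype.val (hAc.is_comm.comm ⟨b, hb⟩ ⟨a, ha⟩)
  have hcen : T ⊓ centralizer (A : Set G) ≤ A := by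
    by_contra hne
    have hlt : A < T ⊓ centralizer (A : Set G) :=
      lt_of_le_of_ne (le_inf hAT hAcen) (fun h => hne h.symm.le)
    haveI : (T ⊓ centralizer (A : Set G)).Normal := inferInstance
    obtain ⟨L, hLn, hAL, hLC, hi⟩ := exists_normal_relIndex_above hG hlt
    have hc := isMulCommutative_of_relIndex_eq hi (hLC.trans inf_le_right)
    have hLA : L ≤ A := hAmax.2 ⟨hLC.trans inf_le_left, hLn, hc⟩ hAL
    have : L = A := le_antisymm hLA hAL
    subst this
    rw [relIndex_self] at hi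
    omega
  obtain ⟨a, hAeq⟩ : ∃ a : G, A = zpowers a := by
    obtain ⟨a', ha'⟩ := hcycA.exists_generator
    refine ⟨a', ?_⟩
    apply le_antisymm
    · intro x hx
      obtain ⟨k, hk⟩ := mem_zpowers_iff.mp (ha' ⟨x, hx⟩)
      exact mem_zpowers_iff.mpr ⟨k, congrArg Subtype.val hk⟩
    · exact zpowers_le.mpr a'.2
  subst hAeq
  obtain ⟨n, hcard⟩ := IsPGroup.iff_card.mp (hG.to_subgroup (zpowers a))
  have hao : orderOf a = 2 ^ n := by rw [← Nat.card_zpowers]; exact hcard
  have haT : a ∈ T := hAT (mem_zpowers a)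
  have hcen' : ∀ g ∈ T, g * a * g⁻¹ = a → g ∈ zpowers a := fun g hg h =>
    hcen ⟨hg, mem_centralizer_zpowers h⟩
  by_cases hn2 : 2 ≤ n
  swap
  · -- `T = A`
    left
    have hTA : T = zpowers a := by
      apply le_antisymm _ hAT
      intro g hg
      apply hcen' g hg
      obtain ⟨r, hr⟩ := exists_conj_eq_zpow hAn g
      by_cases hn0 : n = 0
      · subst hn0
        have : a = 1 := by simpa using hao
        rw [this]; group
      · have hn1 : n = 1 := by omega
        subst hn1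
        have hr2 := odd_of_conj (le_refl _) hao hr
        rw [hr]
        nth_rewrite 2 [← zpow_one a]
        rw [zpow_eq_zpow_iff_dvd hao]
        exact ⟨r / 2, by omega⟩
    rw [hTA]
    infer_instance
  obtain ⟨m, rfl⟩ : ∃ m, n = m + 1 := ⟨n - 1, by omega⟩
  have hm1 : 1 ≤ m := by omega
  -- the central involution
  set z : G := a ^ (2 ^ m) with hz
  have hzz : z = a ^ ((2 : ℤ) ^ m) := by
    rw [hz, ← zpow_natCast]; push_cast; rfl
  have hz2 : z ^ 2 = 1 := by
    rw [hz, ← pow_mul, ← pow_succ, ← hao, pow_orderOf_eq_one]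
  have hz1 : z ≠ 1 := by
    intro h
    have := orderOf_dvd_of_pow_eq_one h
    rw [hao] at this
    have := Nat.le_of_dvd (by positivity) this
    rw [pow_succ] at this
    have h4 : 0 < 2 ^ m := by positivity
    omega
  have hzc : ∀ g : G, g * z * g⁻¹ = z := by
    intro g
    obtain ⟨r, hr⟩ := exists_conj_eq_zpow hAn g
    rw [hzz, conj_zpow_of hr, zpow_eq_zpow_iff_dvd hao]
    have hr2 := odd_of_conj (by omega) hao hr
    obtain ⟨q, rfl⟩ : ∃ q, r = 2 * q + 1 := ⟨r / 2, by omega⟩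
    exact ⟨q, by ring⟩
  -- the key: no element of `T` outside `A` centralizes the subgroup of order 4 of `A`.
  have hkey : ∀ g ∈ T, ∀ r : ℤ, g * a * g⁻¹ = a ^ r → r % 4 = 1 → g ∈ zpowers a := by
    intro g hg r hr h4
    by_contra hgA
    -- the subgroup of elements of `T` whose action on `a` has exponent `≡ 1 mod 4`
    let a4 : G := a ^ ((2 : ℤ) ^ (m - 1))
    have hza4 : (zpowers a4).Normal := by
      constructor
      rintro _ ⟨k, rfl⟩ g'
      obtain ⟨r', hr'⟩ := exists_conj_eq_zpow hAn g'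
      show g' * a4 ^ k * g'⁻¹ ∈ zpowers a4
      rw [← conj_zpow]
      refine mem_zpowers_iff.mpr ⟨k * r', ?_⟩
      show a4 ^ (k * r') = (g' * a4 * g'⁻¹) ^ k
      have : g' * a4 * g'⁻¹ = a4 ^ r' := by
        show g' * a ^ ((2 : ℤ) ^ (m - 1)) * g'⁻¹ = (a ^ ((2 : ℤ) ^ (m - 1))) ^ r'
        rw [conj_zpow_of hr', ← zpow_mul, mul_comm]
      rw [this, ← zpow_mul a4 r' k, mul_comm]
    let C₄ : Subgroup G := T ⊓ centralizer (zpowers a4 : Set G)
    haveI : C₄.Normal := inferInstance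
    have hcomm_a : ∀ x ∈ zpowers a, ∀ y ∈ zpowers a, x * y = y * x := by
      rintro _ ⟨i, rfl⟩ _ ⟨j, rfl⟩
      show a ^ i * a ^ j = a ^ j * a ^ i
      rw [← zpow_add, ← zpow_add, add_comm]
    have hAC₄ : zpowers a ≤ C₄ := by
      intro x hx
      refine Subgroup.mem_inf.mpr ⟨hAT hx, ?_⟩
      rw [mem_centralizer_iff]
      rintro _ ⟨k, rfl⟩
      refine hcomm_a _ ?_ _ hx
      exact zpow_mem (zpow_mem (mem_zpowers a) _) _
    have hgC₄ : g ∈ C₄ := by
      refine Subgroup.mem_inf.mpr ⟨hg, mem_centralizer_zpowers ?_⟩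
      show g * a ^ ((2 : ℤ) ^ (m - 1)) * g⁻¹ = a ^ ((2 : ℤ) ^ (m - 1))
      rw [conj_zpow_of hr, zpow_eq_zpow_iff_dvd hao]
      obtain ⟨q, rfl⟩ : ∃ q, r = 4 * q + 1 := ⟨r / 4, by omega⟩
      obtain ⟨m', rfl⟩ : ∃ m', m = m' + 1 := ⟨m - 1, by omega⟩
      exact ⟨q, by simp only [Nat.add_sub_cancel]; ring⟩
    have hlt : zpowers a < C₄ := lt_of_le_of_ne hAC₄ (fun h => hgA (h ▸ hgC₄))
    obtain ⟨L, hLn, hAL, hLC, hi⟩ := exists_normal_relIndex_above hG hlt
    obtain ⟨w, hwL, hwA⟩ : ∃ w ∈ L, w ∉ zpowers a := by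
      by_contra hall
      push Not at hall
      have : L = zpowers a := le_antisymm hall hAL
      subst this
      rw [relIndex_self] at hi
      omega
    have hLdich : ∀ x ∈ L, ∀ x₀ ∈ L, x₀ ∉ zpowers a → x ∈ zpowers a ∨ x * x₀⁻¹ ∈ zpowers a := by
      intro x hx x₀ hx₀ hx₀A
      by_cases hxA : x ∈ zpowers a
      · exact Or.inl hxA
      · right
        have hidx : ((zpowers a).subgroupOf L).index = 2 := hi
        rw [Subgroup.index_eq_two_iff] at hidx
        have hmem : ∀ u : L, (u : G) ∈ zpowers a ↔ u ∈ (zpowers a).subgroupOf L := fun u => by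
          rw [mem_subgroupOf]
        by_contra hcon
        -- both `x` and `x₀` are outside `A`; so their quotient lies in `A` since the index is 2
        have key2 : ∀ u v : L, (u : G) ∉ zpowers a → (v : G) ∉ zpowers a →
            ((u * v⁻¹ : L) : G) ∈ zpowers a := by
          intro u v hu hv
          obtain ⟨b, hb⟩ := hidx
          have hu' := hb u
          have hv' := hb v
          rw [← hmem] at hu' hv'
          simp only [← hmem] at hu' hv'
          have h1 : ((u * b : L) : G) ∈ zpowers a := by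
            rcases hu' with ⟨h1, h2⟩ | ⟨h1, h2⟩
            · exact h1
            · exact absurd h1 hu
          have h2 : ((v * b : L) : G) ∈ zpowers a := by
            rcases hv' with ⟨h1, h2⟩ | ⟨h1, h2⟩
            · exact h1
            · exact absurd h1 hv
          have h3 : ((u * v⁻¹ : L) : G) = ((u * b : L) : G) * ((v * b : L) : G)⁻¹ := by
            simp only [coe_mul, coe_inv, mul_inv_rev]; group
          rw [h3]
          exact mul_mem h1 (inv_mem h2)
        exact hcon (key2 ⟨x, hx⟩ ⟨x₀, hx₀⟩ hxA hx₀A)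
    have hwT : w ∈ T := (hLC hwL).1
    have hwcen : w ∈ centralizer (zpowers a4 : Set G) := (hLC hwL).2
    obtain ⟨r', hr'⟩ := exists_conj_eq_zpow hAn w
    have hr'odd := odd_of_conj (by omega) hao hr'
    -- `w` centralizes `a4`: `r' ≡ 1 mod 4`
    have hr'4 : (4 : ℤ) ∣ r' - 1 := by
      have h1 : w * a4 * w⁻¹ = a4 := by
        have := conj_eq_of_mem_centralizer hwcen
        exact this
      have h2 : w * a ^ ((2 : ℤ) ^ (m - 1)) * w⁻¹ = a ^ ((2 : ℤ) ^ (m - 1)) := h1
      rw [conj_zpow_of hr', zpow_eq_zpow_iff_dvd hao] at h2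
      obtain ⟨m', rfl⟩ : ∃ m', m = m' + 1 := ⟨m - 1, by omega⟩
      simp only [Nat.add_sub_cancel] at h2
      rw [show r' * 2 ^ m' - 2 ^ m' = 2 ^ m' * (r' - 1) by ring,
        show (2 : ℤ) ^ (m' + 1 + 1) = 2 ^ m' * 4 by ring,
        mul_dvd_mul_iff_left (by positivity)] at h2
      exact h2
    -- `w^2 ∈ A`
    have hw2A : w ^ 2 ∈ zpowers a := by
      have := hLdich (w * w) (mul_mem hwL hwL) w⁻¹ (inv_mem hwL)
        (fun h => hwA (by simpa using inv_mem h))
      have hi2 := hi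
      have hq := pow_mem_of_relIndex_eq (N := zpowers a) hi hwL
      simpa using hq
    obtain ⟨s, hs⟩ := mem_zpowers_iff.mp hw2A
    have hrsq : (2 : ℤ) ^ (m + 1) ∣ r' ^ 2 - 1 := by
      have h1 : w ^ 2 * a * (w ^ 2)⁻¹ = a := by
        rw [← hs]; group
      have h2 : w ^ 2 * a * (w ^ 2)⁻¹ = a ^ (r' * r') := by
        calc _ = w * (w * a * w⁻¹) * w⁻¹ := by rw [sq]; group
          _ = w * a ^ r' * w⁻¹ := by rw [hr']
          _ = a ^ (r' * r') := conj_zpow_of hr' r'
      have h3 : a ^ (r' * r') = a ^ (1 : ℤ) := by rw [← h2, h1, zpow_one]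
      rw [zpow_eq_zpow_iff_dvd hao] at h3
      rwa [show r' ^ 2 - 1 = r' * r' - 1 by ring]
    obtain ⟨k, hk⟩ := dvd_sub_one hrsq (by omega)
    -- `k` is odd, since `w` does not centralize `a`
    have hkodd : k % 2 = 1 := by
      by_contra hk2
      obtain ⟨k', rfl⟩ : ∃ k', k = 2 * k' := ⟨k / 2, by omega⟩
      apply hwA
      apply hcen' w hwT
      rw [hr']
      nth_rewrite 2 [← zpow_one a]
      rw [zpow_eq_zpow_iff_dvd hao, hk]
      exact ⟨k', by ring⟩
    obtain ⟨q, rfl⟩ : ∃ q, k = 2 * q + 1 := ⟨k / 2, by omega⟩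
    -- `m ≥ 2`
    have hm2 : 2 ≤ m := by
      by_contra hlt2
      have : m = 1 := by omega
      subst this
      simp only [pow_one] at hk
      omega
    -- `s` is even
    have hseven : s % 2 = 0 := by
      have h1 : w * a ^ s * w⁻¹ = a ^ s := by
        rw [hs, sq]; group
      rw [conj_zpow_of hr', zpow_eq_zpow_iff_dvd hao] at h1
      rw [show r' * s - s = (r' - 1) * s by ring, hk,
        show (2 : ℤ) ^ m * (2 * q + 1) * s = 2 ^ m * ((2 * q + 1) * s) by ring, pow_succ,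
        mul_dvd_mul_iff_left (by positivity)] at h1
      obtain ⟨c, hc⟩ := h1
      by_contra hs1
      have : s % 2 = 1 := by omega
      obtain ⟨s', rfl⟩ : ∃ s', s = 2 * s' + 1 := ⟨s / 2, by omega⟩
      have : (2 * q + 1) * (2 * s' + 1) = 2 * (2 * q * s' + q + s') + 1 := by ring
      omega
    obtain ⟨s', rfl⟩ : ∃ s', s = 2 * s' := ⟨s / 2, by omega⟩
    obtain ⟨m₁, rfl⟩ : ∃ m₁, m = m₁ + 1 := ⟨m - 1, by omega⟩
    have hm₁ : 1 ≤ m₁ := by omega
    -- the odd unit
    set e₀ : ℤ := 1 + 2 ^ m₁ * (2 * q + 1) with he₀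
    have hr'e : r' + 1 = 2 * e₀ := by
      have : r' = 2 ^ (m₁ + 1) * (2 * q + 1) + 1 := by linarith
      rw [this, he₀]; ring
    have hcop : IsCoprime e₀ ((2 : ℤ) ^ (m₁ + 1)) := by
      apply IsCoprime.pow_right
      obtain ⟨m₂, rfl⟩ : ∃ m₂, m₁ = m₂ + 1 := ⟨m₁ - 1, by omega⟩
      exact ⟨1, -(2 ^ m₂ * (2 * q + 1)), by rw [he₀]; ring⟩
    obtain ⟨u, v, huv⟩ := hcop
    -- the involution
    let j : ℤ := -s' * u
    let x : G := a ^ j * w
    have hxconj : x * a * x⁻¹ = a ^ r' := by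
      calc x * a * x⁻¹ = a ^ j * (w * a * w⁻¹) * (a ^ j)⁻¹ := by
            simp only [x]; group
        _ = a ^ j * a ^ r' * (a ^ j)⁻¹ := by rw [hr']
        _ = a ^ r' := by rw [← zpow_neg, ← zpow_add, ← zpow_add]; congr 1; ring
    have hxsq : x ^ 2 = 1 := by
      have h1 : x ^ 2 = a ^ j * (w * a ^ j * w⁻¹) * w ^ 2 := by
        simp only [x, sq]; group
      rw [h1, conj_zpow_of hr', ← hs, ← zpow_add, ← zpow_add, zpow_eq_one_iff_dvd hao]
      have h2 : j + r' * j + 2 * s' = 2 * (e₀ * j + s') := by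
        rw [show j + r' * j + 2 * s' = (r' + 1) * j + 2 * s' by ring, hr'e]; ring
      rw [h2, pow_succ']
      apply mul_dvd_mul_left
      refine ⟨s' * v, ?_⟩
      simp only [j]
      have : e₀ * (-s' * u) + s' = s' * (1 - u * e₀) := by ring
      rw [this, ← huv]; ring
    have hxL : x ∈ L := mul_mem (hAL (zpow_mem (mem_zpowers a) _)) hwL
    have hxA : x ∉ zpowers a := by
      intro h
      apply hwA
      have : w = (a ^ j)⁻¹ * x := by simp [x]
      rw [this]
      exact mul_mem (inv_mem (zpow_mem (mem_zpowers a) _)) h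
    have hxz : x * z = z * x := by
      have := hzc x
      rw [mul_inv_eq_iff_eq_mul] at this
      exact this
    -- elements of `A` of square one
    have hsqA : ∀ c : ℤ, (a ^ c) ^ 2 = 1 → a ^ c = 1 ∨ a ^ c = z := by
      intro c hc
      rw [← zpow_natCast, ← zpow_mul, zpow_eq_one_iff_dvd hao] at hc
      push_cast at hc
      rw [pow_succ, mul_comm (2 ^ (m₁ + 1)) 2, mul_comm c 2, mul_dvd_mul_iff_left (by norm_num)] at hc
      obtain ⟨d, rfl⟩ := hc
      rcases Int.emod_two_eq_zero_or_one d with hd | hd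
      · left
        obtain ⟨d', rfl⟩ : ∃ d', d = 2 * d' := ⟨d / 2, by omega⟩
        rw [zpow_eq_one_iff_dvd hao]
        exact ⟨d', by ring⟩
      · right
        obtain ⟨d', rfl⟩ : ∃ d', d = 2 * d' + 1 := ⟨d / 2, by omega⟩
        rw [hzz, zpow_eq_zpow_iff_dvd hao]
        exact ⟨d', by ring⟩
    let E : Subgroup G := four z x hz2 hxsq hxz.symm
    have hEL : E ≤ L := by
      rintro e (rfl | rfl | rfl | rfl)
      · exact one_mem _
      · exact hAL (pow_mem (mem_zpowers a) _)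
      · exact hxL
      · exact mul_mem (hAL (pow_mem (mem_zpowers a) _)) hxL
    have hconj_x : ∀ g' : G, g' * x * g'⁻¹ ∈ E := by
      intro g'
      have hx'L : g' * x * g'⁻¹ ∈ L := hLn.conj_mem x hxL g'
      have hx'sq : (g' * x * g'⁻¹) ^ 2 = 1 := by
        rw [conj_pow, hxsq]; group
      rcases hLdich _ hx'L x hxL hxA with h | h
      · obtain ⟨c, hc⟩ := mem_zpowers_iff.mp h
        rw [← hc] at hx'sq
        rcases hsqA c hx'sq with h1 | h1
        · left; rw [← hc, h1]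
        · exfalso
          apply hxA
          have : x = g'⁻¹ * (g' * x * g'⁻¹) * g' := by group
          rw [this, ← hc, h1]
          have h2 := hzc g'⁻¹
          rw [inv_inv] at h2
          rw [h2]
          exact pow_mem (mem_zpowers a) _
      · obtain ⟨c, hc⟩ := mem_zpowers_iff.mp h
        have h1 : g' * x * g'⁻¹ = a ^ c * x := by
          rw [hc]; group
        rw [h1] at hx'sq
        have h2 : (a ^ c) ^ 2 = 1 := by
          -- `(a^c x)^2 = a^(c (1 + r'))`
          have h3 : (a ^ c * x) ^ 2 = a ^ c * (x * a ^ c * x⁻¹) * x ^ 2 := by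
            simp only [sq]; group
          rw [h3, conj_zpow_of hxconj, hxsq, mul_one, ← zpow_add, zpow_eq_one_iff_dvd hao] at hx'sq
          rw [← zpow_natCast, ← zpow_mul, zpow_eq_one_iff_dvd hao]
          rw [show c + r' * c = 2 * (e₀ * c) by
            rw [show c + r' * c = (r' + 1) * c by ring, hr'e]; ring, pow_succ',
            mul_dvd_mul_iff_left (by norm_num)] at hx'sq
          have h4 : (2 : ℤ) ^ (m₁ + 1) ∣ c := by
            exact (IsCoprime.symm ⟨u, v, huv⟩).dvd_of_dvd_mul_left hx'sq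
          obtain ⟨d, rfl⟩ := h4
          push_cast
          exact ⟨d, by ring⟩
        rcases hsqA c h2 with h3 | h3
        · right; right; left; rw [h1, h3, one_mul]
        · right; right; right; rw [h1, h3]
    have hEn : E.Normal := by
      constructor
      intro e he g'
      rcases he with rfl | rfl | rfl | rfl
      · left; group
      · right; left; exact hzc g'
      · exact hconj_x g'
      · have : g' * (z * x) * g'⁻¹ = z * (g' * x * g'⁻¹) := by
          calc g' * (z * x) * g'⁻¹ = (g' * z * g'⁻¹) * (g' * x * g'⁻¹) := by group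
            _ = _ := by rw [hzc]
        rw [this]
        exact mul_mem (show z ∈ E from Or.inr (Or.inl rfl)) (hconj_x g')
    have hEc : Nat.card E = 4 := by
      apply card_four hz1
      · intro h
        exact hxA (h ▸ one_mem _)
      · intro h
        exact hxA (h ▸ pow_mem (mem_zpowers a) _)
    exact hE E (hEL.trans (hLC.trans inf_le_left)) hEn hEc (fun e he => four_sq he)
  have hnot : ∀ g ∈ T, ∀ r : ℤ, g ∉ zpowers a → g * a * g⁻¹ = a ^ r → r % 4 = 3 := by
    intro g hgT r hg hr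
    have h1 := odd_of_conj (by omega) hao hr
    by_contra h3
    exact hg (hkey g hgT r hr (by omega))
  by_cases hTA : T ≤ zpowers a
  · left
    have : T = zpowers a := le_antisymm hTA hAT
    rw [this]
    infer_instance
  right
  obtain ⟨y, hyT, hy⟩ : ∃ y ∈ T, y ∉ zpowers a := by
    by_contra hall
    push Not at hall
    exact hTA hall
  obtain ⟨r, hr⟩ := exists_conj_eq_zpow hAn y
  have hr3 := hnot y hyT r hy hr
  have hmul : ∀ g ∈ T, g ∉ zpowers a → g * y ∈ zpowers a := by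
    intro g hgT hg
    obtain ⟨t, ht⟩ := exists_conj_eq_zpow hAn g
    have ht3 := hnot g hgT t hg ht
    apply hkey (g * y) (mul_mem hgT hyT) (t * r)
    · calc g * y * a * (g * y)⁻¹ = g * (y * a * y⁻¹) * g⁻¹ := by group
        _ = a ^ (t * r) := by rw [hr, conj_zpow_of ht]
    · rw [Int.mul_emod, ht3, hr3]; norm_num
  have hdich : ∀ t ∈ T, t ∈ zpowers a ∨ t * y ∈ zpowers a := by
    intro t ht
    by_cases h : t ∈ zpowers a
    · exact Or.inl h
    · exact Or.inr (hmul t ht h)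
  have hy2 : y ^ 2 ∈ zpowers a := by rw [sq]; exact hmul y hyT hy
  obtain ⟨s, hs⟩ := mem_zpowers_iff.mp hy2
  have hrsq : (2 : ℤ) ^ (m + 1) ∣ r ^ 2 - 1 := by
    have h1 : y ^ 2 * a * (y ^ 2)⁻¹ = a := by
      rw [← hs]; group
    have h2 : y ^ 2 * a * (y ^ 2)⁻¹ = a ^ (r * r) := by
      calc _ = y * (y * a * y⁻¹) * y⁻¹ := by rw [sq]; group
        _ = y * a ^ r * y⁻¹ := by rw [hr]
        _ = a ^ (r * r) := conj_zpow_of hr r
    have h3 : a ^ (r * r) = a ^ (1 : ℤ) := by rw [← h2, h1, zpow_one]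
    rw [zpow_eq_zpow_iff_dvd hao] at h3
    rwa [show r ^ 2 - 1 = r * r - 1 by ring]
  obtain ⟨k, hk⟩ := dvd_add_one hrsq hr3
  have hsd : (2 : ℤ) ^ m ∣ s := by
    have h1 : y * a ^ s * y⁻¹ = a ^ s := by
      rw [hs, sq]; group
    rw [conj_zpow_of hr, zpow_eq_zpow_iff_dvd hao] at h1
    obtain ⟨q, hq⟩ : ∃ q, r = 4 * q + 3 := ⟨r / 4, by omega⟩
    rw [show r * s - s = 2 * ((2 * q + 1) * s) by rw [hq]; ring, pow_succ',
      mul_dvd_mul_iff_left (by norm_num)] at h1
    exact (isCoprime_two_pow_odd m q).dvd_of_dvd_mul_left h1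
  obtain ⟨l, rfl⟩ := hsd
  have hzsq : (a ^ ((2 : ℤ) ^ m)) ^ 2 = 1 := by
    rw [← hzz]; exact hz2
  have hyz : y ^ 2 = (a ^ ((2 : ℤ) ^ m)) ^ l := by rw [← hs, zpow_mul]
  have hm1' : m + 1 - 1 = m := by omega
  refine ⟨m + 1, a, ?_⟩
  rw [hm1']
  rcases Int.emod_two_eq_zero_or_one k with hk2 | hk2
  · -- `y` inverts `a`
    obtain ⟨k', rfl⟩ : ∃ k', k = 2 * k' := ⟨k / 2, by omega⟩
    have hya : y * a * y⁻¹ = a⁻¹ := by
      rw [hr, ← zpow_neg_one a, zpow_eq_zpow_iff_dvd hao, sub_neg_eq_add, hk]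
      exact ⟨k', by ring⟩
    rcases Int.emod_two_eq_zero_or_one l with hl2 | hl2
    · obtain ⟨l', rfl⟩ : ∃ l', l = 2 * l' := ⟨l / 2, by omega⟩
      have hy21 : y ^ 2 = 1 := by
        rw [hyz, zpow_mul, zpow_ofNat, hzsq, one_zpow]
      exact ⟨y, hn2, hao, haT, hyT, hAn, hy, hdich, Or.inr (Or.inl ⟨hy21, hya⟩)⟩
    · obtain ⟨l', rfl⟩ : ∃ l', l = 2 * l' + 1 := ⟨l / 2, by omega⟩
      refine ⟨y, hn2, hao, haT, hyT, hAn, hy, hdich, Or.inl ⟨?_, hya⟩⟩
      rw [hyz, ← hzz, zpow_add, zpow_mul, zpow_ofNat, hz2, one_zpow, one_mul, zpow_one]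
  · obtain ⟨k', rfl⟩ : ∃ k', k = 2 * k' + 1 := ⟨k / 2, by omega⟩
    have hm2 : 2 ≤ m := by
      by_contra hlt
      have : m = 1 := by omega
      subst this
      simp only [pow_one] at hk
      omega
    have hya : a ^ r = a ^ (2 ^ m - 1) := by
      have h1 : ((2 ^ m - 1 : ℕ) : ℤ) = 2 ^ m - 1 := by
        have : 1 ≤ 2 ^ m := Nat.one_le_two_pow
        push_cast [Nat.cast_sub this]
        ring
      rw [← zpow_natCast a, h1, zpow_eq_zpow_iff_dvd hao]
      have : r = 2 ^ m * (2 * k' + 1) - 1 := by rw [← hk]; ring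
      rw [this]
      exact ⟨k', by ring⟩
    rcases Int.emod_two_eq_zero_or_one l with hl2 | hl2
    · obtain ⟨l', rfl⟩ : ∃ l', l = 2 * l' := ⟨l / 2, by omega⟩
      have hy21 : y ^ 2 = 1 := by
        rw [hyz, zpow_mul, zpow_ofNat, hzsq, one_zpow]
      exact ⟨y, hn2, hao, haT, hyT, hAn, hy, hdich, Or.inr (Or.inr ⟨by omega, hy21, by rw [hr, hya]⟩)⟩
    · obtain ⟨l', rfl⟩ : ∃ l', l = 2 * l' + 1 := ⟨l / 2, by omega⟩
      -- replace `y` by `y a`
      have hya1 : (y * a) ∉ zpowers a := by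
        intro h
        apply hy
        have : y = y * a * a⁻¹ := by group
        rw [this]
        exact mul_mem h (inv_mem (mem_zpowers a))
      have hy21 : (y * a) ^ 2 = 1 := by
        have h1 : (y * a) ^ 2 = (y * a * y⁻¹) * y ^ 2 * a := by
          rw [sq, sq]; group
        rw [h1, hr, ← hs, ← zpow_add]
        nth_rewrite 2 [← zpow_one a]
        rw [← zpow_add, zpow_eq_one_iff_dvd hao]
        have h2 : r + 2 ^ m * (2 * l' + 1) + 1 = (r + 1) + 2 ^ m * (2 * l' + 1) := by ring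
        rw [h2, hk]
        exact ⟨k' + l' + 1, by ring⟩
      have hya2 : (y * a) * a * (y * a)⁻¹ = a ^ (2 ^ m - 1) := by
        rw [← hya, ← hr]; group
      have hdich2 : ∀ t ∈ T, t ∈ zpowers a ∨ t * (y * a) ∈ zpowers a := by
        intro t ht
        by_cases h : t ∈ zpowers a
        · exact Or.inl h
        · right
          have h1 := hmul t ht h
          have h2 := mul_mem h1 (mem_zpowers a)
          simpa [mul_assoc] using h2
      exact ⟨y * a, hn2, hao, haT, mul_mem hyT haT, hAn, hya1, hdich2,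
        Or.inr (Or.inr ⟨by omega, hy21, hya2⟩)⟩

end Cfsg.Agent.Lib.KleinSD
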